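import Mathlib

/-!
# A nilpotent matrix is a sum of shifts

The identity matrix is a sum of products `β * α` of maps intertwining a nilpotent matrix `N` with
shift matrices.
-/

set_option autoImplicit false

namespace Cfsg.Agent.Lib.CyclicBlock

open Matrix

variable {k : Type*} [Field k] {ι : Type*} [Fintype ι] [DecidableEq ι]

/-- The shift matrix of size `m`. -/
def shift (k : Type*) [Field k] (m : ℕ) : Matrix (Fin m) (Fin m) k :=
  Matrix.of fun i j => if (i : ℕ) + 1 = (j : ℕ) then 1 else 0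

/-- The products of intertwiners with shifts of size at most `q`. -/
def shiftProducts (N : Matrix ι ι k) (q : ℕ) : Set (Matrix ι ι k) :=
  {X | ∃ (m : ℕ) (α : Matrix (Fin m) ι k) (β : Matrix ι (Fin m) k), m ≤ q ∧
    α * N = shift k m * α ∧ N * β = β * shift k m ∧ X = β * α}

theorem shift_mul_apply {m : ℕ} {κ : Type*} (A : Matrix (Fin m) κ k) (i : Fin m) (j : κ) :
    (shift k m * A) i j = if h : (i : ℕ) + 1 < m then A ⟨i + 1, h⟩ j else 0 := by
  rw [Matrix.mul_apply]
  split_ifs with h
  · rw [Finset.sum_eq_single ⟨(i : ℕ) + 1, h⟩]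
    · simp [shift]
    · intro b _ hb
      have : (i : ℕ) + 1 ≠ (b : ℕ) := fun hh => hb (Fin.ext hh.symm)
      simp [shift, this]
    · exact fun hh => absurd (Finset.mem_univ _) hh
  · refine Finset.sum_eq_zero fun b _ => ?_
    have : (i : ℕ) + 1 ≠ (b : ℕ) := fun hh => h (hh ▸ b.2)
    simp [shift, this]

theorem mul_shift_apply {m : ℕ} {κ : Type*} (A : Matrix κ (Fin m) k) (i : κ) (j : Fin m) :
    (A * shift k m) i j =
      if h : 0 < (j : ℕ) then A i ⟨(j : ℕ) - 1, lt_of_le_of_lt (Nat.sub_le _ _) j.2⟩ else 0 := by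
  rw [Matrix.mul_apply]
  split_ifs with h
  · rw [Finset.sum_eq_single ⟨(j : ℕ) - 1, lt_of_le_of_lt (Nat.sub_le _ _) j.2⟩]
    · have : (j : ℕ) - 1 + 1 = (j : ℕ) := by omega
      simp [shift, this]
    · intro b _ hb
      have : (b : ℕ) + 1 ≠ (j : ℕ) := fun hh => hb (Fin.ext (by simp only; omega))
      simp [shift, this]
    · exact fun hh => absurd (Finset.mem_univ _) hh
  · refine Finset.sum_eq_zero fun b _ => ?_
    have : (b : ℕ) + 1 ≠ (j : ℕ) := by omega
    simp [shift, this]

theorem range_lt_of_mul {A B : Matrix ι ι k} (h1 : A * B = B) (h2 : A * A = A)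
    (x : ι → k) (hx : ∀ y, B.mulVec y ≠ A.mulVec x) : B.rank < A.rank := by
  refine Submodule.finrank_lt_finrank_of_lt (lt_of_le_of_ne ?_ fun heq => ?_)
  · rintro _ ⟨y, rfl⟩
    exact ⟨B.mulVec y, by simp [Matrix.mulVec_mulVec, h1]⟩
  · obtain ⟨y, hy⟩ : A.mulVec x ∈ LinearMap.range B.mulVecLin := heq ▸ ⟨x, rfl⟩
    exact hx y hy

/-- Every idempotent commuting with `N` is a sum of products of intertwiners with shifts. -/
theorem idem_mem_closure {N : Matrix ι ι k} {q : ℕ} (hN : N ^ q = 0) :
    ∀ (d : ℕ) (e : Matrix ι ι k), e.rank ≤ d → e * e = e → N * e = e * N →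
      e ∈ AddSubmonoid.closure (shiftProducts N q) := by
  intro d
  induction d with
  | zero =>
    intro e he _ _
    have h0 : LinearMap.range e.mulVecLin = ⊥ :=
      Submodule.finrank_eq_zero.1 (Nat.le_zero.1 he)
    rw [LinearMap.range_eq_bot] at h0
    have : e = 0 := Matrix.ext_of_mulVec_single fun i => by
      rw [Matrix.zero_mulVec]
      exact LinearMap.congr_fun h0 _
    rw [this]
    exact zero_mem _
  | succ d ih =>
    intro e hrk he hcomm
    by_cases he0 : e = 0
    · rw [he0]; exact zero_mem _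
    classical
    have hex : ∃ m, N ^ m * e = 0 := ⟨q, by rw [hN, zero_mul]⟩
    set m := Nat.find hex with hm_def
    have hm : N ^ m * e = 0 := Nat.find_spec hex
    have hmq : m ≤ q := Nat.find_min' hex (by rw [hN, zero_mul])
    have hm0 : 0 < m := by
      rcases Nat.eq_zero_or_pos m with h | h
      · exact absurd (by simpa [h] using hm) he0
      · exact h
    have hge : ∀ a, m ≤ a → N ^ a * e = 0 := fun a ha => by
      obtain ⟨b, rfl⟩ := Nat.exists_eq_add_of_le ha
      rw [Nat.add_comm, pow_add, mul_assoc, hm, mul_zero]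
    obtain ⟨i₀, j₀, hne⟩ : ∃ i₀ j₀, (N ^ (m - 1) * e) i₀ j₀ ≠ 0 := by
      by_contra hc
      push Not at hc
      exact Nat.find_min hex (show m - 1 < m by omega) (Matrix.ext hc)
    set c := ((N ^ (m - 1) * e) i₀ j₀)⁻¹ with hc_def
    have hpe : ∀ a, N ^ a * e * N = N ^ (a + 1) * e := fun a => by
      rw [mul_assoc, ← hcomm, ← mul_assoc, ← pow_succ]
    let α : Matrix (Fin m) ι k := Matrix.of fun i j => c * (N ^ (i : ℕ) * e) i₀ j
    let β : Matrix ι (Fin m) k := Matrix.of fun i j => (N ^ (m - 1 - (j : ℕ)) * e) i j₀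
    have hαN : α * N = shift k m * α := by
      ext i j
      have h1 : (α * N) i j = c * (N ^ ((i : ℕ) + 1) * e) i₀ j := by
        rw [← hpe, Matrix.mul_apply, Matrix.mul_apply, Finset.mul_sum]
        exact Finset.sum_congr rfl fun l _ => mul_assoc _ _ _
      rw [h1, shift_mul_apply]
      split_ifs with h
      · rfl
      · rw [hge _ (by omega), Matrix.zero_apply, mul_zero]
    have hNβ : N * β = β * shift k m := by
      ext i j
      have h1 : (N * β) i j = (N ^ (m - 1 - (j : ℕ) + 1) * e) i j₀ := by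
        rw [pow_succ', mul_assoc]
        rfl
      rw [h1, mul_shift_apply]
      split_ifs with h
      · show _ = (N ^ (m - 1 - ((j : ℕ) - 1)) * e) i j₀
        rw [show m - 1 - ((j : ℕ) - 1) = m - 1 - (j : ℕ) + 1 by omega]
      · rw [hge _ (by omega), Matrix.zero_apply]
    have heβ : e * β = β := by
      ext i j
      have : (e * β) i j = (e * (N ^ (m - 1 - (j : ℕ)) * e)) i j₀ := rfl
      rw [this, ← mul_assoc, ← ((Commute.pow_left hcomm _).eq), mul_assoc, he]
      rfl
    have hαe : α * e = α := by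
      ext i j
      have h1 : (α * e) i j = c * (N ^ (i : ℕ) * e * e) i₀ j := by
        rw [Matrix.mul_apply, Matrix.mul_apply, Finset.mul_sum]
        exact Finset.sum_congr rfl fun l _ => mul_assoc _ _ _
      rw [h1, mul_assoc, he]
      rfl
    have hαβ : ∀ i j : Fin m, (α * β) i j = c * (N ^ ((i : ℕ) + (m - 1 - (j : ℕ))) * e) i₀ j₀ := by
      intro i j
      have h1 : (α * β) i j =
          c * (N ^ (i : ℕ) * e * (N ^ (m - 1 - (j : ℕ)) * e)) i₀ j₀ := by
        rw [Matrix.mul_apply, Matrix.mul_apply, Finset.mul_sum]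
        exact Finset.sum_congr rfl fun l _ => mul_assoc _ _ _
      rw [h1, mul_assoc (N ^ (i : ℕ)) e, ← mul_assoc e, ← ((Commute.pow_left hcomm _).eq),
        mul_assoc _ e e, he, ← mul_assoc, ← pow_add]
    have hu : IsUnit (α * β) := by
      rw [Matrix.isUnit_iff_isUnit_det]
      have hbt : (α * β).BlockTriangular id := fun i j hij => by
        rw [hαβ, hge _ (by have : (j : ℕ) < (i : ℕ) := hij; omega), Matrix.zero_apply, mul_zero]
      rw [Matrix.det_of_upperTriangular hbt, Finset.prod_eq_one fun i _ => ?_]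
      · exact isUnit_one
      · rw [hαβ, show (i : ℕ) + (m - 1 - (i : ℕ)) = m - 1 by omega]
        exact inv_mul_cancel₀ hne
    obtain ⟨T, hT⟩ := hu
    have hTS : (↑T : Matrix (Fin m) (Fin m) k) * shift k m =
        shift k m * (↑T : Matrix (Fin m) (Fin m) k) := by
      rw [hT, Matrix.mul_assoc, ← hNβ, ← Matrix.mul_assoc, hαN, Matrix.mul_assoc]
    have hTS' : (↑T⁻¹ : Matrix (Fin m) (Fin m) k) * shift k m =
        shift k m * (↑T⁻¹ : Matrix (Fin m) (Fin m) k) :=
      (Commute.units_inv_left hTS).eq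
    let β' : Matrix ι (Fin m) k := β * (↑T⁻¹ : Matrix (Fin m) (Fin m) k)
    have hα' : α * β' = 1 := by
      show α * (β * _) = 1
      rw [← Matrix.mul_assoc, ← hT, Units.mul_inv]
    have hNβ' : N * β' = β' * shift k m := by
      show N * (β * _) = β * _ * _
      rw [← Matrix.mul_assoc, hNβ, Matrix.mul_assoc, ← hTS', Matrix.mul_assoc]
    set e₁ := β' * α with he₁
    have hmem : e₁ ∈ AddSubmonoid.closure (shiftProducts N q) :=
      AddSubmonoid.subset_closure ⟨m, α, β', hmq, hαN, hNβ', rfl⟩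
    have hee₁ : e * e₁ = e₁ := by
      show e * (β * _ * α) = β * _ * α
      rw [← Matrix.mul_assoc, ← Matrix.mul_assoc, heβ]
    have he₁e : e₁ * e = e₁ := by
      show β' * α * e = β' * α
      rw [Matrix.mul_assoc, hαe]
    have he₁₁ : e₁ * e₁ = e₁ := by
      show β' * α * (β' * α) = β' * α
      rw [Matrix.mul_assoc, ← Matrix.mul_assoc α, hα', Matrix.one_mul]
    have hNe₁ : N * e₁ = e₁ * N := by
      show N * (β' * α) = β' * α * N
      rw [← Matrix.mul_assoc, hNβ', Matrix.mul_assoc β', Matrix.mul_assoc β', hαN]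
    have hid : (e - e₁) * (e - e₁) = e - e₁ := by
      rw [sub_mul, mul_sub, mul_sub, he, hee₁, he₁e, he₁₁]
      abel
    have hlt : (e - e₁).rank < e.rank := by
      refine range_lt_of_mul (by rw [mul_sub, he, hee₁]) he (β'.col ⟨0, hm0⟩) fun y hy => ?_
      have h2 := congrArg α.mulVec hy
      have hz : α * (e - e₁) = 0 := by
        rw [Matrix.mul_sub, hαe, he₁, ← Matrix.mul_assoc, hα', Matrix.one_mul, sub_self]
      rw [Matrix.mulVec_mulVec, Matrix.mulVec_mulVec, hz, hαe, Matrix.zero_mulVec] at h2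
      have h3 : α.mulVec (β'.col ⟨0, hm0⟩) ⟨0, hm0⟩ = (α * β') ⟨0, hm0⟩ ⟨0, hm0⟩ := rfl
      rw [← h2, hα', Matrix.one_apply_eq] at h3
      exact zero_ne_one h3
    have h := ih (e - e₁) (by omega) hid (by rw [mul_sub, sub_mul, hcomm, hNe₁])
    have := add_mem h hmem
    rwa [sub_add_cancel] at this

/-- The identity is a sum of products of intertwiners with shifts. -/
theorem one_mem_closure {N : Matrix ι ι k} {q : ℕ} (hN : N ^ q = 0) :
    (1 : Matrix ι ι k) ∈ AddSubmonoid.closure (shiftProducts N q) :=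
  idem_mem_closure hN _ 1 le_rfl (mul_one 1) (by rw [mul_one, one_mul])

end Cfsg.Agent.Lib.CyclicBlock
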