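import Mathlib
import Cfsg.Agent.Lib.CyclicBlock.Shift

/-!
# A local corner over a cyclic relatively projective algebra is commutative

Let `B` be spanned by the image of a finite group `G`, let `u ∈ G` and suppose that `1` is a
relative trace from `⟨u⟩`. If `B` is a matrix algebra over a local corner whose radical needs two
generators, it has a one parameter family of pairwise different indecomposable modules of the same
dimension; all of them are summands of modules induced from the finitely many indecomposable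
modules of `⟨u⟩`, which is impossible.
-/

set_option autoImplicit false

namespace Cfsg.Agent.Lib.CyclicBlock

open Finset

variable {k : Type*} [Field k] {B : Type*} [Ring B] [Algebra k B]

/-- The sum of the conjugates of an intertwiner over the cosets is an intertwiner. -/
theorem sum_conj_intertwine {G : Type*} [Group G] [Finite G] {ι κ : Type*} [Fintype ι] [Fintype κ]
    [DecidableEq ι] [DecidableEq κ] (φ : G →* Matrix ι ι k) (φ' : G →* Matrix κ κ k) (u : G)
    [Fintype (G ⧸ Subgroup.zpowers u)] {Y : Matrix ι κ k} (hY : φ u * Y = Y * φ' u) (h : G) :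
    φ h * ∑ c : G ⧸ Subgroup.zpowers u, φ c.out * Y * φ' c.out⁻¹ =
      (∑ c : G ⧸ Subgroup.zpowers u, φ c.out * Y * φ' c.out⁻¹) * φ' h := by
  classical
  have hpow : ∀ m : ℕ, φ (u ^ m) * Y = Y * φ' (u ^ m) := by
    intro m
    induction m with
    | zero => simp
    | succ m ih =>
      rw [pow_succ, map_mul, map_mul, Matrix.mul_assoc, hY, ← Matrix.mul_assoc, ih, Matrix.mul_assoc]
  rw [Matrix.mul_sum, Matrix.sum_mul]
  refine Fintype.sum_equiv (MulAction.toPerm h) _ _ fun c => ?_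
  rw [MulAction.toPerm_apply]
  obtain ⟨m, hm⟩ : ∃ m : ℕ, u ^ m = (h • c).out⁻¹ * (h * c.out) := by
    have : (((h • c).out : G) : G ⧸ Subgroup.zpowers u) = ((h * c.out : G) : G ⧸ Subgroup.zpowers u) := by
      rw [QuotientGroup.out_eq', ← smul_eq_mul, ← MulAction.Quotient.smul_coe, QuotientGroup.out_eq']
    obtain ⟨m, -, hm⟩ : ∃ m : ℕ, m < orderOf u ∧ u ^ m = (h • c).out⁻¹ * (h * c.out) := by
      have := mem_zpowers_iff_mem_range_orderOf.1 (QuotientGroup.eq.1 this)
      simpa using this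
    exact ⟨m, hm⟩
  set d := (h • c).out
  calc φ h * (φ c.out * Y * φ' c.out⁻¹)
      = φ d * (φ (d⁻¹ * (h * c.out)) * Y) * φ' c.out⁻¹ := by
        rw [← Matrix.mul_assoc (φ d), ← map_mul, mul_inv_cancel_left, map_mul]
        simp only [Matrix.mul_assoc]
    _ = φ d * Y * (φ' (d⁻¹ * (h * c.out)) * φ' c.out⁻¹) := by
        rw [← hm, hpow, hm]
        simp only [Matrix.mul_assoc]
    _ = φ d * Y * φ' d⁻¹ * φ' h := by
        rw [Matrix.mul_assoc _ (φ' d⁻¹), ← map_mul, ← map_mul]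
        congr 2
        group

/-- A matrix algebra structure on `B` with a local corner. -/
structure LocalCorner (k : Type*) [Field k] (B : Type*) [Ring B] [Algebra k B] where
  n : ℕ
  n_pos : 0 < n
  i : B
  u : Fin n → B
  v : Fin n → B
  hi : i * i = i
  vu : ∀ s t, v s * u t = if s = t then i else 0
  uv : ∑ s, u s * v s = 1
  ui : ∀ s, u s * i = u s
  iv : ∀ s, i * v s = v s
  ε : B →ₗ[k] k
  ε_i : ε i = 1
  ε_mul : ∀ z w, i * z * i = z → i * w * i = w → ε (z * w) = ε z * ε w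
  J : Ideal B
  J_twoSided : J.IsTwoSided
  J_nil : ∃ N : ℕ, J ^ N = ⊥
  ε_J : ∀ z, i * z * i = z → (ε z = 0 ↔ z ∈ J)

namespace LocalCorner

variable (C : LocalCorner k B)

theorem mem_left {z : B} (hz : C.i * z * C.i = z) : C.i * z = z := by
  conv_lhs => rw [← hz, ← mul_assoc, ← mul_assoc, C.hi]
  exact hz

theorem mem_right {z : B} (hz : C.i * z * C.i = z) : z * C.i = z := by
  conv_lhs => rw [← hz, mul_assoc, C.hi]
  exact hz

theorem corner_mem (y : B) (s t : Fin C.n) :
    C.i * (C.v s * y * C.u t) * C.i = C.v s * y * C.u t := by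
  rw [← mul_assoc, ← mul_assoc, C.iv, mul_assoc, C.ui]

/-- The corner without its unit: kernel of `ε`. -/
def rad : Submodule k B where
  carrier := {z | C.i * z * C.i = z ∧ C.ε z = 0}
  add_mem' := fun {z w} hz hw => ⟨by rw [mul_add, add_mul, hz.1, hw.1],
    by rw [map_add, hz.2, hw.2, add_zero]⟩
  zero_mem' := ⟨by simp, map_zero _⟩
  smul_mem' := fun c z hz => ⟨by rw [mul_smul_comm, smul_mul_assoc, hz.1],
    by rw [map_smul, hz.2, smul_zero]⟩

/-- The span of the products in the radical. -/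
def rad2 : Submodule k B := Submodule.span k {w | ∃ x ∈ C.rad, ∃ y ∈ C.rad, w = x * y}

theorem rad2_le : C.rad2 ≤ C.rad := by
  refine Submodule.span_le.2 ?_
  rintro _ ⟨x, hx, y, hy, rfl⟩
  exact ⟨by rw [← mul_assoc, C.mem_left hx.1, mul_assoc, C.mem_right hy.1],
    by rw [C.ε_mul _ _ hx.1 hy.1, hx.2, zero_mul]⟩

theorem sub_smul_mem_rad {z : B} (hz : C.i * z * C.i = z) : z - C.ε z • C.i ∈ C.rad :=
  ⟨by rw [mul_sub, sub_mul, hz, mul_smul_comm, C.hi, smul_mul_assoc, C.hi],
    by rw [map_sub, map_smul, C.ε_i, smul_eq_mul, mul_one, sub_self]⟩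

theorem eq_of_one_generator {g : B} (hg : g ∈ C.rad)
    (hgen : ∀ x ∈ C.rad, ∃ c : k, x - c • g ∈ C.rad2) {z w : B} (hz : C.i * z * C.i = z)
    (hw : C.i * w * C.i = w) : z * w = w * z := by
  haveI := C.J_twoSided
  obtain ⟨N, hN⟩ := C.J_nil
  have hJ : ∀ {x}, x ∈ C.rad → x ∈ C.J := fun {x} hx => (C.ε_J x hx.1).1 hx.2
  have hrmul : ∀ {x y}, x ∈ C.rad → y ∈ C.rad → x * y ∈ C.rad := fun {x y} hx hy =>
    C.rad2_le (Submodule.subset_span ⟨x, hx, y, hy, rfl⟩)
  let S : Submodule k B := Submodule.span k (Set.range fun e : ℕ => g ^ (e + 1))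
  have hSmul : ∀ x ∈ S, ∀ y ∈ S, x * y ∈ S ∧ x * y = y * x := by
    intro x hx y hy
    induction hx using Submodule.span_induction with
    | mem x hx =>
      obtain ⟨e, rfl⟩ := hx
      induction hy using Submodule.span_induction with
      | mem y hy =>
        obtain ⟨e', rfl⟩ := hy
        exact ⟨Submodule.subset_span ⟨e + e' + 1, by dsimp only; rw [← pow_add]; congr 1; omega⟩,
          (Commute.pow_pow_self g _ _).eq⟩
      | zero => simp
      | add y y' _ _ h h' => exact ⟨by rw [mul_add]; exact S.add_mem h.1 h'.1,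
          by rw [mul_add, add_mul, h.2, h'.2]⟩
      | smul c y _ h => exact ⟨by rw [mul_smul_comm]; exact S.smul_mem c h.1,
          by rw [mul_smul_comm, smul_mul_assoc, h.2]⟩
    | zero => simp
    | add x x' _ _ h h' => exact ⟨by rw [add_mul]; exact S.add_mem h.1 h'.1,
        by rw [mul_add, add_mul, h.2, h'.2]⟩
    | smul c x _ h => exact ⟨by rw [smul_mul_assoc]; exact S.smul_mem c h.1,
        by rw [mul_smul_comm, smul_mul_assoc, h.2]⟩
  have hSK : ∀ x ∈ S, x ∈ C.rad := fun x hx => by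
    refine Submodule.span_le.2 ?_ hx
    rintro _ ⟨e, rfl⟩
    induction e with
    | zero => simpa using hg
    | succ e ih =>
      show g ^ (e + 1 + 1) ∈ C.rad
      rw [pow_succ]
      exact hrmul ih hg
  have hfilt : ∀ e : ℕ, ∀ x ∈ C.rad, ∃ s ∈ S, x - s ∈ C.J ^ (e + 1) := by
    intro e
    induction e with
    | zero => exact fun x hx => ⟨0, S.zero_mem, by
        rw [zero_add, sub_zero, Submodule.pow_one]; exact hJ hx⟩
    | succ e ih =>
      intro x hx
      obtain ⟨c, hc⟩ := hgen x hx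
      suffices h : ∀ w ∈ C.rad2, ∃ s ∈ S, w - s ∈ C.J ^ (e + 2) by
        obtain ⟨s, hs, hs'⟩ := h _ hc
        refine ⟨c • g + s, S.add_mem (S.smul_mem c (Submodule.subset_span ⟨0, pow_one g⟩)) hs, ?_⟩
        rwa [← sub_sub]
      intro w hw
      induction hw using Submodule.span_induction with
      | mem w hw =>
        obtain ⟨a, ha, a', ha', rfl⟩ := hw
        obtain ⟨s, hs, hs'⟩ := ih a ha
        obtain ⟨s', hs1, hs1'⟩ := ih a' ha'
        refine ⟨s * s', (hSmul s hs s' hs1).1, ?_⟩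
        rw [show a * a' - s * s' = (a - s) * a' + s * (a' - s') by noncomm_ring]
        refine (C.J ^ (e + 2)).add_mem ?_ ?_
        · rw [Submodule.pow_succ (M := C.J) (n := e + 1)]
          exact Ideal.mul_mem_mul hs' (hJ ha')
        · rw [Ideal.IsTwoSided.pow_succ (I := C.J) (n := e + 1)]
          exact Ideal.mul_mem_mul (hJ (hSK s hs)) hs1'
      | zero => exact ⟨0, S.zero_mem, by simp⟩
      | add a a' _ _ h h' =>
        obtain ⟨s, hs, hs'⟩ := h
        obtain ⟨s', hs1, hs1'⟩ := h'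
        exact ⟨s + s', S.add_mem hs hs1, by
          rw [show a + a' - (s + s') = (a - s) + (a' - s') by abel]
          exact (C.J ^ (e + 2)).add_mem hs' hs1'⟩
      | smul c a _ h =>
        obtain ⟨s, hs, hs'⟩ := h
        exact ⟨c • s, S.smul_mem c hs, by
          rw [← smul_sub]; exact ((C.J ^ (e + 2)).restrictScalars k).smul_mem c hs'⟩
  have hKS : ∀ x ∈ C.rad, x ∈ S := fun x hx => by
    obtain ⟨s, hs, hs'⟩ := hfilt N x hx
    have h0 := Ideal.pow_le_pow_right (Nat.le_succ N) hs'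
    rw [hN] at h0
    rw [Ideal.mem_bot, sub_eq_zero] at h0
    rwa [h0]
  have h1 := hKS _ (C.sub_smul_mem_rad hz)
  have h2 := hKS _ (C.sub_smul_mem_rad hw)
  have h3 := (hSmul _ h1 _ h2).2
  simp only [sub_mul, mul_sub, smul_mul_assoc, mul_smul_comm, C.mem_left hz, C.mem_right hz,
    C.mem_left hw, C.mem_right hw, C.hi, smul_smul, mul_comm (C.ε z) (C.ε w)] at h3
  linear_combination (norm := module) h3

/-- The two dimensional representation of the corner attached to a functional. -/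
def rho2 (f : B →ₗ[k] k) (z : B) : Matrix (Fin 2) (Fin 2) k := !![C.ε z, f z; 0, C.ε z]

/-- The representation of `B` attached to a functional. -/
def rep (f : B →ₗ[k] k) : B →ₗ[k] Matrix (Fin C.n × Fin 2) (Fin C.n × Fin 2) k where
  toFun y := Matrix.of fun a b => C.rho2 f (C.v a.1 * y * C.u b.1) a.2 b.2
  map_add' y y' := by
    ext ⟨s, a⟩ ⟨t, b⟩
    fin_cases a <;> fin_cases b <;> simp [rho2, mul_add, add_mul]
  map_smul' c y := by
    ext ⟨s, a⟩ ⟨t, b⟩
    fin_cases a <;> fin_cases b <;> simp [rho2]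

theorem rep_apply (f : B →ₗ[k] k) (y : B) (s t : Fin C.n) (a b : Fin 2) :
    C.rep f y (s, a) (t, b) = C.rho2 f (C.v s * y * C.u t) a b := rfl

theorem rho2_mul {f : B →ₗ[k] k} (hfi : f C.i = 0) (hf2 : ∀ w ∈ C.rad2, f w = 0) {z w : B}
    (hz : C.i * z * C.i = z) (hw : C.i * w * C.i = w) :
    C.rho2 f (z * w) = C.rho2 f z * C.rho2 f w := by
  have h : f (z * w) = C.ε z * f w + f z * C.ε w := by
    have h1 := hf2 _ (Submodule.subset_span
      ⟨_, C.sub_smul_mem_rad hz, _, C.sub_smul_mem_rad hw, rfl⟩)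
    simp only [sub_mul, mul_sub, smul_mul_assoc, mul_smul_comm, C.mem_left hw, C.mem_right hz,
      C.hi, smul_smul, map_sub, map_smul, hfi, smul_eq_mul, mul_zero, sub_zero] at h1
    linear_combination h1
  ext a b
  fin_cases a <;> fin_cases b <;>
    simp [rho2, C.ε_mul _ _ hz hw, h, Matrix.mul_apply, Fin.sum_univ_two]

/-- The representation as a monoid homomorphism. -/
def repHom (f : B →ₗ[k] k) (hfi : f C.i = 0) (hf2 : ∀ w ∈ C.rad2, f w = 0) :
    B →* Matrix (Fin C.n × Fin 2) (Fin C.n × Fin 2) k where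
  toFun := C.rep f
  map_one' := by
    ext ⟨s, a⟩ ⟨t, b⟩
    rw [rep_apply, mul_one, C.vu]
    by_cases h : s = t
    · subst h
      fin_cases a <;> fin_cases b <;> simp [rho2, C.ε_i, hfi]
    · fin_cases a <;> fin_cases b <;> simp [rho2, h]
  map_mul' y y' := by
    ext ⟨s, a⟩ ⟨t, b⟩
    have hsum : C.v s * (y * y') * C.u t = ∑ r, (C.v s * y * C.u r) * (C.v r * y' * C.u t) := by
      calc C.v s * (y * y') * C.u t = C.v s * y * 1 * (y' * C.u t) := by simp only [mul_one, mul_assoc]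
        _ = _ := by
          rw [← C.uv, Finset.mul_sum, Finset.sum_mul]
          simp only [mul_assoc]
    have hlin : C.rho2 f (∑ r, (C.v s * y * C.u r) * (C.v r * y' * C.u t)) a b =
        ∑ r, C.rho2 f ((C.v s * y * C.u r) * (C.v r * y' * C.u t)) a b := by
      fin_cases a <;> fin_cases b <;> simp [rho2]
    rw [rep_apply, hsum, hlin, Matrix.mul_apply, Fintype.sum_prod_type]
    refine Finset.sum_congr rfl fun r _ => ?_
    rw [C.rho2_mul hfi hf2 (C.corner_mem _ _ _) (C.corner_mem _ _ _), Matrix.mul_apply]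
    rfl

/-- The shape of an intertwiner between two of the representations. -/
theorem intertwiner_shape {f f' : B →ₗ[k] k} (hfi : f C.i = 0) (hf'i : f' C.i = 0) {g₁ g₂ : B}
    (hg₁ : g₁ ∈ C.rad) (hg₂ : g₂ ∈ C.rad) (h1 : f g₁ = 1) (h1' : f' g₁ = 1)
    {T : Matrix (Fin C.n × Fin 2) (Fin C.n × Fin 2) k} (hT : ∀ y, C.rep f y * T = T * C.rep f' y) :
    ∃ A b : k, (∀ w s, T.mulVec w (s, 0) = A * w (s, 0) + b * w (s, 1)) ∧
      (∀ w s, T.mulVec w (s, 1) = A * w (s, 1)) ∧ (f g₂ ≠ f' g₂ → A = 0) ∧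
      A = T (⟨0, C.n_pos⟩, 0) (⟨0, C.n_pos⟩, 0) := by
  classical
  have hEv : ∀ (F : B →ₗ[k] k) (s₀ t₀ s t : Fin C.n) (z : B) (a b : Fin 2), C.i * z * C.i = z →
      C.rep F (C.u s₀ * z * C.v t₀) (s, a) (t, b) =
        if s = s₀ ∧ t₀ = t then C.rho2 F z a b else 0 := by
    intro F s₀ t₀ s t z a b hz
    rw [rep_apply, show C.v s * (C.u s₀ * z * C.v t₀) * C.u t =
      (C.v s * C.u s₀) * z * (C.v t₀ * C.u t) by simp only [mul_assoc], C.vu, C.vu]
    by_cases h : s = s₀ ∧ t₀ = t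
    · rw [if_pos h.1, if_pos h.2, if_pos h, hz]
    · rw [if_neg h]
      rcases not_and_or.1 h with h' | h'
      · rw [if_neg h']
        fin_cases a <;> fin_cases b <;> simp [rho2]
      · rw [if_neg h']
        fin_cases a <;> fin_cases b <;> simp [rho2]
  have key : ∀ (s₀ t₀ s t : Fin C.n) (z : B) (a b : Fin 2), C.i * z * C.i = z →
      (if s = s₀ then ∑ c, C.rho2 f z a c * T (t₀, c) (t, b) else 0) =
        if t₀ = t then ∑ c, T (s, a) (s₀, c) * C.rho2 f' z c b else 0 := by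
    intro s₀ t₀ s t z a b hz
    have h := congrFun (congrFun (hT (C.u s₀ * z * C.v t₀)) (s, a)) (t, b)
    simp only [Matrix.mul_apply, Fintype.sum_prod_type, hEv _ _ _ _ _ _ _ _ hz, ite_mul, mul_ite,
      zero_mul, mul_zero, ite_and] at h
    simpa using h
  have hI : C.i * C.i * C.i = C.i := by rw [C.hi, C.hi]
  have hri : ∀ F : B →ₗ[k] k, F C.i = 0 → ∀ a c, C.rho2 F C.i a c = if a = c then 1 else 0 := by
    intro F hF a c
    fin_cases a <;> fin_cases c <;> simp [rho2, C.ε_i, hF]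
  set o : Fin C.n := ⟨0, C.n_pos⟩
  have hoff : ∀ s t a b, T (s, a) (t, b) = if s = t then T (o, a) (o, b) else 0 := by
    intro s t a b
    have h := key t o s o C.i a b hI
    simp only [hri f hfi, hri f' hf'i, ite_mul, one_mul, zero_mul, mul_ite, mul_one, mul_zero,
      Finset.sum_ite_eq, Finset.sum_ite_eq', Finset.mem_univ, if_true] at h
    exact h.symm
  have hg : ∀ (z : B), z ∈ C.rad → ∀ a b, ∑ c, C.rho2 f z a c * T (o, c) (o, b) =
      ∑ c, T (o, a) (o, c) * C.rho2 f' z c b := fun z hz a b => by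
    simpa using key o o o o z a b hz.1
  have e00 := hg g₁ hg₁ 0 0
  have e01 := hg g₁ hg₁ 0 1
  have f01 := hg g₂ hg₂ 0 1
  simp [rho2, hg₁.2, hg₂.2, h1, h1', Fin.sum_univ_two] at e00 e01 f01
  refine ⟨T (o, 0) (o, 0), T (o, 0) (o, 1), fun w s => ?_, fun w s => ?_, fun hne => ?_, rfl⟩
  · simp [Matrix.mulVec, dotProduct, Fintype.sum_prod_type, hoff s, ite_mul, Fin.sum_univ_two,
      Finset.sum_add_distrib]
  · simp [Matrix.mulVec, dotProduct, Fintype.sum_prod_type, hoff s, ite_mul, Fin.sum_univ_two,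
      Finset.sum_add_distrib, e00, e01]
  · rw [e01] at f01
    have : (f g₂ - f' g₂) * T (o, 0) (o, 0) = 0 := by linear_combination f01
    exact (mul_eq_zero.1 this).resolve_left (sub_ne_zero.2 hne)

/-- Two generators of the radical give an impossible family of modules. -/
theorem false_of_two_generators [Infinite k] {G : Type*} [Group G] [Finite G] {p a : ℕ}
    [Fact p.Prime] [CharP k p] (γ : G →* B) (hγ : Submodule.span k (Set.range γ) = ⊤) (u : G)
    (hu : u ^ p ^ a = 1) [Fintype (G ⧸ Subgroup.zpowers u)] {x : B} (hx : γ u * x = x * γ u)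
    (htr : ∑ c : G ⧸ Subgroup.zpowers u, γ c.out * x * γ c.out⁻¹ = 1)
    {f₁ f₂ : B →ₗ[k] k} (h1i : f₁ C.i = 0) (h2i : f₂ C.i = 0) (h1r : ∀ w ∈ C.rad2, f₁ w = 0)
    (h2r : ∀ w ∈ C.rad2, f₂ w = 0) {g₁ g₂ : B} (hg₁ : g₁ ∈ C.rad) (hg₂ : g₂ ∈ C.rad)
    (h11 : f₁ g₁ = 1) (h21 : f₂ g₁ = 0) (h12 : f₁ g₂ = 0) (h22 : f₂ g₂ = 1) : False := by
  classical
  haveI : Nonempty (Fin C.n) := ⟨⟨0, C.n_pos⟩⟩
  let f : k → (B →ₗ[k] k) := fun l => f₁ + l • f₂
  have hfi : ∀ l, f l C.i = 0 := fun l => by simp [f, h1i, h2i]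
  have hf2 : ∀ l, ∀ w ∈ C.rad2, f l w = 0 := fun l w hw => by simp [f, h1r w hw, h2r w hw]
  have hf11 : ∀ l, f l g₁ = 1 := fun l => by simp [f, h11, h21]
  have hf12 : ∀ l, f l g₂ = l := fun l => by simp [f, h12, h22]
  let φ : k → G →* Matrix (Fin C.n × Fin 2) (Fin C.n × Fin 2) k :=
    fun l => (C.repHom (f l) (hfi l) (hf2 l)).comp γ
  let q := p ^ a
  let o : Fin C.n × Fin 2 := (⟨0, C.n_pos⟩, 0)
  have hext : ∀ l l' (T : Matrix (Fin C.n × Fin 2) (Fin C.n × Fin 2) k),
      (∀ h, φ l h * T = T * φ l' h) → ∀ y, C.rep (f l) y * T = T * C.rep (f l') y := by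
    intro l l' T hT y
    have hy : y ∈ Submodule.span k (Set.range γ) := hγ ▸ Submodule.mem_top
    induction hy using Submodule.span_induction with
    | mem y hy => obtain ⟨h, rfl⟩ := hy; exact hT h
    | zero => simp
    | add y y' _ _ hy hy' => simp only [map_add, Matrix.add_mul, Matrix.mul_add, hy, hy']
    | smul c y _ hy => simp only [map_smul, Matrix.smul_mul, Matrix.mul_smul, hy]
  have hexists : ∀ l, ∃ (m : Fin (q + 1)) (α : Matrix (Fin m.1) (Fin C.n × Fin 2) k)
      (β : Matrix (Fin C.n × Fin 2) (Fin m.1) k),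
      α * φ l u = (1 + shift k m.1) * α ∧ φ l u * β = β * (1 + shift k m.1) ∧
      (∑ c : G ⧸ Subgroup.zpowers u,
        φ l c.out * (C.rep (f l) x * (β * α)) * φ l c.out⁻¹) o o ≠ 0 := by
    intro l
    have hN : (φ l u - 1) ^ q = 0 := by
      rw [sub_pow_char_pow_of_commute p a (Commute.one_right _), ← map_pow, hu, map_one, one_pow,
        sub_self]
    by_contra hcon
    push Not at hcon
    have hzero : ∀ Y ∈ AddSubmonoid.closure (shiftProducts (φ l u - 1) q),
        (∑ c : G ⧸ Subgroup.zpowers u,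
          φ l c.out * (C.rep (f l) x * Y) * φ l c.out⁻¹) o o = 0 := by
      intro Y hY
      induction hY using AddSubmonoid.closure_induction with
      | mem Y hY =>
        obtain ⟨m, α, β, hm, hα, hβ, rfl⟩ := hY
        refine hcon ⟨m, Nat.lt_succ_of_le hm⟩ α β ?_ ?_
        · rw [Matrix.add_mul, Matrix.one_mul, ← hα, Matrix.mul_sub, Matrix.mul_one, add_sub_cancel]
        · rw [Matrix.mul_add, Matrix.mul_one, ← hβ, Matrix.sub_mul, Matrix.one_mul, add_sub_cancel]
      | zero => simp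
      | add Y Y' _ _ h h' =>
        simp only [Matrix.mul_add, Matrix.add_mul, Finset.sum_add_distrib, Matrix.add_apply, h, h',
          add_zero]
    have h := hzero 1 (one_mem_closure hN)
    simp only [Matrix.mul_one] at h
    have h' : ∑ c : G ⧸ Subgroup.zpowers u, φ l c.out * C.rep (f l) x * φ l c.out⁻¹ = 1 := by
      have := congrArg (C.repHom (f l) (hfi l) (hf2 l)) htr
      rw [map_one] at this
      rw [← this, show (C.repHom (f l) (hfi l) (hf2 l)) _ = C.rep (f l) _ from rfl, map_sum]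
      refine Finset.sum_congr rfl fun c _ => ?_
      show C.repHom (f l) (hfi l) (hf2 l) (γ c.out) * C.repHom (f l) (hfi l) (hf2 l) x *
        C.repHom (f l) (hfi l) (hf2 l) (γ c.out⁻¹) = C.repHom (f l) (hfi l) (hf2 l) _
      rw [← map_mul, ← map_mul]
    rw [h', Matrix.one_apply_eq] at h
    exact one_ne_zero h
  choose m α β hα hβ hne using hexists
  obtain ⟨m₀, hm₀⟩ := Finite.exists_infinite_fiber m
  haveI : Infinite {l : k | m l = m₀} := hm₀
  let r := Nat.card G * m₀.1 + 1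
  let emb := (Infinite.natEmbedding {l : k | m l = m₀})
  let L : Fin r → k := fun i => (emb i.1 : k)
  have hLm : ∀ i, m (L i) = m₀ := fun i => (emb i.1).2
  have hLinj : Function.Injective L := fun i j h => Fin.ext (emb.injective (Subtype.ext h))
  have hdata : ∀ i, ∃ (α' : Matrix (Fin m₀.1) (Fin C.n × Fin 2) k)
      (β' : Matrix (Fin C.n × Fin 2) (Fin m₀.1) k),
      α' * φ (L i) u = (1 + shift k m₀.1) * α' ∧ φ (L i) u * β' = β' * (1 + shift k m₀.1) ∧
      (∑ c : G ⧸ Subgroup.zpowers u,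
        φ (L i) c.out * (C.rep (f (L i)) x * (β' * α')) * φ (L i) c.out⁻¹) o o ≠ 0 := by
    intro i
    rw [← hLm i]
    exact ⟨_, _, hα _, hβ _, hne _⟩
  choose A Bt hA hBt hAB using hdata
  let X : Fin r → Fin r → Matrix (Fin C.n × Fin 2) (Fin C.n × Fin 2) k := fun i j =>
    ∑ c : G ⧸ Subgroup.zpowers u, φ (L i) c.out * (C.rep (f (L i)) x * (Bt i * A j)) * φ (L j) c.out⁻¹
  have hX : ∀ i j h, φ (L i) h * X i j = X i j * φ (L j) h := fun i j h => by
    refine sum_conj_intertwine (φ (L i)) (φ (L j)) u ?_ h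
    have hux : φ (L i) u * C.rep (f (L i)) x = C.rep (f (L i)) x * φ (L i) u := by
      show C.repHom _ (hfi _) (hf2 _) (γ u) * C.repHom _ (hfi _) (hf2 _) x =
        C.repHom _ (hfi _) (hf2 _) x * C.repHom _ (hfi _) (hf2 _) (γ u)
      rw [← map_mul, ← map_mul, hx]
    rw [← Matrix.mul_assoc, hux, Matrix.mul_assoc, ← Matrix.mul_assoc (φ (L i) u), hBt,
      Matrix.mul_assoc, ← hA, Matrix.mul_assoc, Matrix.mul_assoc (Bt i)]
  let Φ : (Fin r → Fin C.n × Fin 2 → k) →ₗ[k] (G → Fin m₀.1 → k) :=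
    LinearMap.pi fun g => ∑ j, ((A j * φ (L j) g⁻¹).mulVecLin).comp (LinearMap.proj j)
  have hΦ : Function.Injective Φ := by
    rw [← LinearMap.ker_eq_bot, LinearMap.ker_eq_bot']
    intro w hw
    have hXw : ∀ i, ∑ j, (X i j).mulVec (w j) = 0 := by
      intro i
      simp only [X, Matrix.sum_mulVec]
      rw [Finset.sum_comm]
      refine Finset.sum_eq_zero fun c _ => ?_
      have h : ∑ j, (A j * φ (L j) c.out⁻¹).mulVec (w j) = 0 := by
        have h0 := congrFun hw c.out
        simpa [Φ] using h0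
      calc ∑ j, (φ (L i) c.out * (C.rep (f (L i)) x * (Bt i * A j)) * φ (L j) c.out⁻¹).mulVec (w j)
          = (φ (L i) c.out * (C.rep (f (L i)) x * Bt i)).mulVec
              (∑ j, (A j * φ (L j) c.out⁻¹).mulVec (w j)) := by
            rw [Matrix.mulVec_sum]
            exact Finset.sum_congr rfl fun j _ => by
              rw [Matrix.mulVec_mulVec]; simp only [Matrix.mul_assoc]
        _ = 0 := by rw [h, Matrix.mulVec_zero]
    choose AA bb h0' h1' hoff hA0 using fun i j =>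
      C.intertwiner_shape (hfi (L i)) (hfi (L j)) hg₁ hg₂ (hf11 _) (hf11 _) (hext _ _ _ (hX i j))
    have hdiag : ∀ i, AA i i ≠ 0 := fun i => by rw [hA0]; exact hAB i
    have hzero : ∀ i j, i ≠ j → AA i j = 0 := fun i j hij =>
      hoff i j (by rw [hf12, hf12]; exact fun h => hij (hLinj h))
    have hsnd : ∀ i s, w i (s, 1) = 0 := by
      intro i s
      have h := congrFun (hXw i) (s, 1)
      rw [Finset.sum_apply, Finset.sum_eq_single i, h1'] at h
      · exact (mul_eq_zero.1 h).resolve_left (hdiag i)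
      · intro j _ hj
        rw [h1', hzero i j hj.symm, zero_mul]
      · exact fun h => absurd (Finset.mem_univ _) h
    funext i ⟨s, b⟩
    fin_cases b
    · have h := congrFun (hXw i) (s, 0)
      rw [Finset.sum_apply, Finset.sum_eq_single i, h0', hsnd, mul_zero, add_zero] at h
      · exact (mul_eq_zero.1 h).resolve_left (hdiag i)
      · intro j _ hj
        rw [h0', hzero i j hj.symm, hsnd, zero_mul, mul_zero, add_zero]
      · exact fun h => absurd (Finset.mem_univ _) h
    · exact hsnd i s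
  have hdim := LinearMap.finrank_le_finrank_of_injective hΦ
  haveI := Fintype.ofFinite G
  simp only [Module.finrank_pi_fintype, Module.finrank_self, Finset.sum_const, Finset.card_univ,
    Fintype.card_fin, smul_eq_mul, mul_one, Fintype.card_prod, ← Nat.card_eq_fintype_card (α := G)]
    at hdim
  have h2n : 1 ≤ C.n * 2 := by have := C.n_pos; omega
  have : r ≤ r * (C.n * 2) := Nat.le_mul_of_pos_right r h2n
  omega

/-- The corner is commutative. -/
theorem corner_comm [Infinite k] {G : Type*} [Group G] [Finite G] {p a : ℕ} [Fact p.Prime]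
    [CharP k p] (γ : G →* B) (hγ : Submodule.span k (Set.range γ) = ⊤) (u : G)
    (hu : u ^ p ^ a = 1) [Fintype (G ⧸ Subgroup.zpowers u)] {x : B} (hx : γ u * x = x * γ u)
    (htr : ∑ c : G ⧸ Subgroup.zpowers u, γ c.out * x * γ c.out⁻¹ = 1) {z w : B}
    (hz : C.i * z * C.i = z) (hw : C.i * w * C.i = w) : z * w = w * z := by
  by_cases h1 : C.rad ≤ C.rad2
  · exact C.eq_of_one_generator C.rad.zero_mem (fun x hx => ⟨0, by simpa using h1 hx⟩) hz hw
  obtain ⟨g₁, hg₁, hg₁'⟩ := SetLike.not_le_iff_exists.1 h1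
  by_cases h2 : ∀ x ∈ C.rad, ∃ c : k, x - c • g₁ ∈ C.rad2
  · exact C.eq_of_one_generator hg₁ h2 hz hw
  push Not at h2
  obtain ⟨g₂, hg₂, hg₂'⟩ := h2
  exfalso
  have hεi : ∀ {w' : B} {c : k}, w' ∈ C.rad → c • C.i + w' ∈ C.rad → c = 0 := fun {w' c} hw' h => by
    simpa [hw'.2, C.ε_i] using h.2
  have hnm₁ : g₁ ∉ C.rad2 ⊔ Submodule.span k {C.i, g₂} := by
    rintro h
    obtain ⟨y, hy, t, ht, hyt⟩ := Submodule.mem_sup.1 h
    obtain ⟨c, d, rfl⟩ := Submodule.mem_span_pair.1 ht
    have hc : c = 0 := hεi (C.rad.add_mem (C.rad2_le hy) (C.rad.smul_mem d hg₂)) (by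
      convert hg₁ using 1; rw [← hyt]; abel)
    rw [hc, zero_smul, zero_add] at hyt
    by_cases hd : d = 0
    · exact hg₁' (by rw [← hyt, hd, zero_smul, add_zero]; exact hy)
    · refine hg₂' d⁻¹ ?_
      rw [← hyt, smul_add, inv_smul_smul₀ hd, show g₂ - (d⁻¹ • y + g₂) = -(d⁻¹ • y) by abel]
      exact C.rad2.neg_mem (C.rad2.smul_mem _ hy)
  have hnm₂ : g₂ ∉ C.rad2 ⊔ Submodule.span k {C.i, g₁} := by
    rintro h
    obtain ⟨y, hy, t, ht, hyt⟩ := Submodule.mem_sup.1 h
    obtain ⟨c, d, rfl⟩ := Submodule.mem_span_pair.1 ht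
    have hc : c = 0 := hεi (C.rad.add_mem (C.rad2_le hy) (C.rad.smul_mem d hg₁)) (by
      convert hg₂ using 1; rw [← hyt]; abel)
    rw [hc, zero_smul, zero_add] at hyt
    exact hg₂' d (by rw [← hyt, add_sub_cancel_right]; exact hy)
  have hfun : ∀ {g g' : B}, g ∉ C.rad2 ⊔ Submodule.span k {C.i, g'} → ∃ F : B →ₗ[k] k,
      F g = 1 ∧ F C.i = 0 ∧ F g' = 0 ∧ ∀ w ∈ C.rad2, F w = 0 := by
    intro g g' h
    obtain ⟨F, hF, hF'⟩ := Submodule.exists_dual_map_eq_bot_of_notMem h inferInstance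
    have hF0 : ∀ w ∈ C.rad2 ⊔ Submodule.span k {C.i, g'}, F w = 0 := fun w hw =>
      (Submodule.mem_bot k).1 (hF' ▸ Submodule.mem_map_of_mem hw)
    refine ⟨(F g)⁻¹ • F, inv_mul_cancel₀ hF, ?_, ?_, fun w hw => ?_⟩
    · simp [hF0 _ (Submodule.mem_sup_right (Submodule.subset_span (Set.mem_insert C.i _)))]
    · simp [hF0 _ (Submodule.mem_sup_right (Submodule.subset_span
        (Set.mem_insert_of_mem C.i (Set.mem_singleton g'))))]
    · simp [hF0 w (Submodule.mem_sup_left hw)]
  obtain ⟨f₁, a1, a2, a3, a4⟩ := hfun hnm₁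
  obtain ⟨f₂, b1, b2, b3, b4⟩ := hfun hnm₂
  exact C.false_of_two_generators γ hγ u hu hx htr a2 b2 a4 b4 hg₁ hg₂ a1 b3 a3 b1

end LocalCorner

end Cfsg.Agent.Lib.CyclicBlock
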