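import Mathlib
import Cfsg.Agent.Lib.Blocks.DefectClass
import Cfsg.Agent.Lib.Blocks.Idempotent
import Cfsg.Agent.Lib.Blocks.Brauer

/-!
# The block idempotent is a relative trace from a defect group
-/

set_option autoImplicit false

namespace Cfsg.Agent.Lib.CyclicBlock

open Cfsg MonoidAlgebra
open Cfsg.Agent.Lib
open Cfsg.Agent.Lib.Blocks

universe u

variable {G : Type u} [Group G] [Fintype G] {M : Ideal AlgInt} [M.IsPrime] {p : ℕ}
  [Fact p.Prime] {B : Set (IrrCharacter G)}

/-- The sum of the conjugates over the cosets of `D ≤ C(g)` is a multiple of the class sum. -/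
theorem sum_conj_eq_smul_classSum {k : Type*} [CommRing k] {g : G} {D : Subgroup G}
    [Fintype (G ⧸ D)] (hD : D ≤ Subgroup.centralizer ({g} : Set G)) :
    ∑ c : G ⧸ D, single (c.out * g * c.out⁻¹) (1 : k) =
      (D.relIndex (Subgroup.centralizer ({g} : Set G)) : k) • classSum k g := by
  classical
  ext y
  simp only [coeff_sum, Finsupp.coe_finsetSum, Finset.sum_apply, coeff_single,
    Finsupp.single_apply, coeff_smul, Finsupp.smul_apply, coeff_classSum, smul_eq_mul, mul_ite,
    mul_one, mul_zero, Finset.sum_boole]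
  have hconst : ∀ a : G, ∀ d ∈ D, a * d * g * (a * d)⁻¹ = a * g * a⁻¹ := fun a d hd => by
    have h := Subgroup.mem_centralizer_singleton_iff.1 (hD hd)
    calc a * d * g * (a * d)⁻¹ = a * (d * g) * d⁻¹ * a⁻¹ := by group
      _ = a * (g * d) * d⁻¹ * a⁻¹ := by rw [h]
      _ = a * g * a⁻¹ := by group
  split_ifs with hy
  · obtain ⟨h, rfl⟩ := isConj_iff.1 hy
    congr 1
    rw [Subgroup.relIndex, Subgroup.index, ← Fintype.card_subtype, ← Nat.card_eq_fintype_card]
    symm
    let F : (Subgroup.centralizer ({g} : Set G) ⧸ D.subgroupOf (Subgroup.centralizer ({g} : Set G))) →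
        {c : G ⧸ D // c.out * g * c.out⁻¹ = h * g * h⁻¹} := fun q =>
      ⟨((h * (q.out : G) : G) : G ⧸ D), by
        obtain ⟨d, hd⟩ := QuotientGroup.mk_out_eq_mul D (h * (q.out : G))
        rw [hd, hconst _ _ d.2]
        have := Subgroup.mem_centralizer_singleton_iff.1 q.out.2
        calc h * (q.out : G) * g * (h * (q.out : G))⁻¹
            = h * ((q.out : G) * g) * (q.out : G)⁻¹ * h⁻¹ := by group
          _ = h * (g * (q.out : G)) * (q.out : G)⁻¹ * h⁻¹ := by rw [this]
          _ = _ := by group⟩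
    refine Nat.card_eq_of_bijective F ⟨fun a b hab => ?_, fun c => ?_⟩
    · have h1 := QuotientGroup.eq.1 (congrArg Subtype.val hab)
      rw [mul_inv_rev, mul_assoc, inv_mul_cancel_left] at h1
      rw [← a.out_eq', ← b.out_eq']
      exact QuotientGroup.eq.2 (Subgroup.mem_subgroupOf.2 (by simpa using h1))
    · have hc : h⁻¹ * c.1.out ∈ Subgroup.centralizer ({g} : Set G) := by
        rw [Subgroup.mem_centralizer_singleton_iff]
        calc h⁻¹ * c.1.out * g = h⁻¹ * (c.1.out * g * c.1.out⁻¹) * c.1.out := by group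
          _ = h⁻¹ * (h * g * h⁻¹) * c.1.out := by rw [c.2]
          _ = g * (h⁻¹ * c.1.out) := by group
      refine ⟨((⟨_, hc⟩ : Subgroup.centralizer ({g} : Set G)) : _ ⧸ _), Subtype.ext ?_⟩
      obtain ⟨d, hd⟩ := QuotientGroup.mk_out_eq_mul
        (D.subgroupOf (Subgroup.centralizer ({g} : Set G)))
        (⟨_, hc⟩ : Subgroup.centralizer ({g} : Set G))
      simp only [F]
      rw [hd]
      refine (QuotientGroup.eq.2 ?_).trans c.1.out_eq'
      have hd' : (d : G) ∈ D := Subgroup.mem_subgroupOf.1 d.2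
      rw [Subgroup.coe_mul, ← mul_assoc, mul_inv_cancel_left, mul_inv_rev, mul_assoc,
        inv_mul_cancel, mul_one]
      exact inv_mem hd'
  · rw [Finset.filter_eq_empty_iff.2 (fun c _ h => hy (isConj_iff.2 ⟨c.out, h⟩)), Finset.card_empty,
      Nat.cast_zero]

/-- The block idempotent modulo `M` is a relative trace from a defect group. -/
theorem exists_relTrace_eq (hM : IsPModular p M) (hB : IsPBlock M B) {D : Subgroup G}
    (hD : IsDefectGroup p M B D) [Fintype (G ⧸ D)] :
    ∃ x : MonoidAlgebra (Residue M) G, (∀ d ∈ D, single d 1 * x = x * single d 1) ∧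
      ∑ c : G ⧸ D, single c.out 1 * x * single c.out⁻¹ 1 =
        toF M G (blockIdem M hB : MonoidAlgebra (localRing M) G) := by
  classical
  obtain ⟨g, hg, hDp, hDC, hDcard⟩ := isDefectGroup_iff.1 hD
  obtain ⟨χ, hχ⟩ := isPBlock_nonempty hB
  set k := Residue M
  set e := toF M G (blockIdem M hB : MonoidAlgebra (localRing M) G) with he
  set z : RCenter M G := classSumR M g * blockIdem M hB with hz
  set w := omegaR M χ (classSumR M g) with hw
  have hw0 : residue M w ≠ 0 := by
    rw [Ne, residue_eq_zero_iff, hw, omegaR_classSumR]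
    exact hg.2.2 χ hχ
  set n0 : RCenter M G := z - algebraMap _ _ w * blockIdem M hB with hn0
  have hnil : IsNilpotent (toF M G (n0 : MonoidAlgebra (localRing M) G)) := by
    refine isNilpotent_of_omegaBar_eq_zero fun ψ => ?_
    rw [hn0, hz, map_sub, map_mul, map_mul, omegaBar_blockIdem, omegaBar_algebraMap]
    by_cases hψ : ψ ∈ B
    · rw [if_pos hψ, mul_one, mul_one, hw, ← omegaBar_apply, sub_eq_zero,
        omegaBar_eq_of_sameBlock (sameBlock_of_mem hB hψ hχ)]
    · rw [if_neg hψ, mul_zero, mul_zero, sub_zero]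
  have hec : ∀ y, e * y = y * e := fun y =>
    (Subalgebra.mem_center_iff.1 (map_mem_center (residue M) (blockIdem M hB).2) y).symm
  have hee : e * e = e := by
    rw [he, ← map_mul, ← MulMemClass.coe_mul, blockIdem_mul_self]
  have hS : toF M G (classSumR M g : MonoidAlgebra (localRing M) G) = classSum k g :=
    map_classSum (residue M) g
  set N := toF M G (n0 : MonoidAlgebra (localRing M) G) with hN
  have hze : classSum k g * e = residue M w • e + N := by
    have h : (z : MonoidAlgebra (localRing M) G) = (algebraMap _ _ w * blockIdem M hB : RCenter M G) +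
        (n0 : MonoidAlgebra (localRing M) G) := by
      rw [← AddMemClass.coe_add, hn0, add_sub_cancel]
    have h2 := congrArg (toF M G) h
    rw [map_add, hz, MulMemClass.coe_mul, map_mul, hS, MulMemClass.coe_mul, map_mul] at h2
    rw [h2, Algebra.smul_def]
    congr 2
    rw [Subalgebra.coe_algebraMap, MonoidAlgebra.coe_algebraMap]
    simp [MonoidAlgebra.coe_algebraMap]
  have hNc : ∀ y, N * y = y * N := fun y =>
    (Subalgebra.mem_center_iff.1 (map_mem_center (residue M) n0.2) y).symm
  have hu : IsUnit (1 + (residue M w)⁻¹ • N) := (hnil.smul _).isUnit_one_add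
  obtain ⟨U, hU⟩ := hu
  have hUc : ∀ y, Commute (↑U⁻¹ : MonoidAlgebra k G) y := fun y => by
    refine Commute.units_inv_left ?_
    rw [hU]
    exact (Commute.one_left y).add_left ((show Commute N y from hNc y).smul_left _)
  have hNe : N * e = N := by
    rw [he, hN, ← map_mul, ← MulMemClass.coe_mul, hn0, sub_mul, hz, mul_assoc, mul_assoc,
      blockIdem_mul_self]
  have hmain : classSum k g * ((residue M w)⁻¹ • (e * (↑U⁻¹ : MonoidAlgebra k G))) = e := by
    rw [mul_smul_comm, ← mul_assoc, hze, ← smul_mul_assoc, smul_add, inv_smul_smul₀ hw0]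
    have : e + (residue M w)⁻¹ • N = e * (1 + (residue M w)⁻¹ • N) := by
      rw [mul_add, mul_one, mul_smul_comm, hec N, hNe]
    rw [this, ← hU, mul_assoc, Units.mul_inv, mul_one]
  set y := (residue M w)⁻¹ • (e * (↑U⁻¹ : MonoidAlgebra k G)) with hy
  have hyc : ∀ a, a * y = y * a := fun a => by
    rw [hy, mul_smul_comm, smul_mul_assoc, ← mul_assoc, ← hec, mul_assoc, ← (hUc a).eq, mul_assoc]
  haveI := charP_residue hM
  set m := D.relIndex (Subgroup.centralizer ({g} : Set G))
  have hm : (m : k) ≠ 0 := by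
    rw [Ne, CharP.cast_eq_zero_iff k p]
    intro hdvd
    have hmul : Nat.card D * m = Nat.card (Subgroup.centralizer ({g} : Set G)) := by
      rw [← Nat.card_congr (Subgroup.subgroupOfEquivOfLe hDC).toEquiv]
      exact Subgroup.card_mul_index _
    have hdiv : p ^ ((Nat.card (Subgroup.centralizer ({g} : Set G))).factorization p + 1) ∣
        Nat.card (Subgroup.centralizer ({g} : Set G)) := by
      rw [pow_succ]
      conv_rhs => rw [← hmul, hDcard]
      exact mul_dvd_mul_left _ hdvd
    exact Nat.pow_succ_factorization_not_dvd Nat.card_pos.ne' (Fact.out : p.Prime) hdiv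
  refine ⟨(m : k)⁻¹ • (single g 1 * y), fun d hd => ?_, ?_⟩
  · have h := Subgroup.mem_centralizer_singleton_iff.1 (hDC hd)
    rw [mul_smul_comm, smul_mul_assoc, ← mul_assoc, single_mul_single, mul_one, mul_assoc,
      ← hyc (single d 1), ← mul_assoc, single_mul_single, mul_one, h]
  · have hterm : ∀ c : G ⧸ D, single c.out (1 : k) * ((m : k)⁻¹ • (single g 1 * y)) * single c.out⁻¹ 1 =
        (m : k)⁻¹ • (single (c.out * g * c.out⁻¹) 1 * y) := fun c => by
      rw [mul_smul_comm, smul_mul_assoc, mul_assoc, mul_assoc (single g 1), ← hyc, ← mul_assoc,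
        ← mul_assoc, single_mul_single, single_mul_single, mul_one, mul_one]
    rw [Finset.sum_congr rfl fun c _ => hterm c, ← Finset.smul_sum, ← Finset.sum_mul,
      sum_conj_eq_smul_classSum hDC, smul_mul_assoc, inv_smul_smul₀ hm, hmain]

end Cfsg.Agent.Lib.CyclicBlock
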