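import Mathlib
import Cfsg.Agent.Lib.CyclicBlock.Summands
import Cfsg.Agent.Lib.CyclicBlock.Trace
import Cfsg.Agent.Lib.Contrib.BlockTwo
import Cfsg.Agent.Lib.SmallFaithful.Lattice
import Cfsg.Agent.Lib.Blocks.PPart
import Cfsg.Agent.Lib.Blocks.DefectCard
import Cfsg.Prelude.Def_BlockRank

/-!
# The block algebra of a block of rank one with cyclic defect group

The block algebra is a matrix algebra over a commutative algebra, so all degrees in the block are
equal and the number of characters is divisible by the order of the defect group.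
-/

set_option autoImplicit false
set_option maxHeartbeats 800000

namespace Cfsg.Agent.Lib.CyclicBlock

open Cfsg MonoidAlgebra
open Cfsg.Agent.Lib
open Cfsg.Agent.Lib.Blocks
open Cfsg.Agent.Lib.Contrib
open scoped ComplexConjugate

universe u

attribute [local instance] Classical.propDecidable

variable {G : Type u} [Group G] [Fintype G]

theorem sum_class_translate [Fintype (ConjClasses G)] (χ : IrrCharacter G) (g : G)
    (c : ConjClasses G) :
    ∑ x ∈ Finset.univ.filter (fun x => ConjClasses.mk x = c), (χ : G → ℂ) (x * g⁻¹) =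
      centralChar (χ : G → ℂ) (classRep c) * (χ : G → ℂ) g⁻¹ := by
  have h1 : omega (χ : G → ℂ) (classSum ℂ (classRep c) * single g⁻¹ 1) =
      (∑ x ∈ Finset.univ.filter (fun x => ConjClasses.mk x = c), (χ : G → ℂ) (x * g⁻¹)) /
        (χ : G → ℂ) 1 := by
    rw [omega_eq_sum, Finset.sum_div, Finset.sum_filter, ← Equiv.sum_comp (Equiv.mulRight g⁻¹)]
    refine Finset.sum_congr rfl fun x _ => ?_
    simp only [Equiv.coe_mulRight, coeff_mul_single_apply, coeff_classSum, mul_one, inv_inv,
      inv_mul_cancel_right]
    by_cases hx : ConjClasses.mk x = c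
    · rw [if_pos hx, if_pos ((isConj_classRep_iff c x).2 hx.symm), one_mul]
    · rw [if_neg hx, if_neg fun h => hx ((isConj_classRep_iff c x).1 h).symm, zero_mul]
  rw [omega_mul χ (classSum_mem_center _), omega_classSum (Chars.irr_isClassFunction χ),
    omega_single, one_mul] at h1
  have hne := Chars.irr_apply_one_ne_zero χ
  field_simp at h1
  linear_combination -h1

theorem exists_regular_scalar {p : ℕ} {B : Set (IrrCharacter G)} (hl : blockRank p B = 1) :
    ∃ Φ : G → ℂ, ∀ χ ∈ B, ∃ r : ℂ, ∀ g : G, ¬ p ∣ orderOf g → (χ : G → ℂ) g = r * Φ g := by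
  haveI : FiniteDimensional ℂ (G → ℂ) := inferInstance
  obtain ⟨v, -, hv⟩ := finrank_eq_one_iff'.1 hl
  refine ⟨(v : G → ℂ), fun χ hχ => ?_⟩
  obtain ⟨r, hr⟩ := hv ⟨_, Submodule.subset_span ⟨χ, hχ, rfl⟩⟩
  refine ⟨r, fun g hg => ?_⟩
  have h : r * (v : G → ℂ) g = pRegularPart p (χ : G → ℂ) g :=
    congrFun (congrArg Subtype.val hr) g
  rw [h, pRegularPart, if_pos]
  exact hg

/-- An algebra with matrix units is a space of matrices over its corner. -/
theorem finrank_eq_corner {k : Type*} [Field k] {R : Type*} [Ring R] [Algebra k R]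
    [FiniteDimensional k R] {n : ℕ} {i : R}
    {u v : Fin n → R} (hi : i * i = i) (hvu : ∀ s t, v s * u t = if s = t then i else 0)
    (huv : ∑ s, u s * v s = 1) (hiv : ∀ s, i * v s = v s) (hui : ∀ s, u s * i = u s)
    (A₀ : Submodule k R) (hAm : ∀ {x : R}, x ∈ A₀ ↔ i * x * i = x) :
    Module.finrank k R = n * (n * Module.finrank k A₀) := by
  have hcorner : ∀ x s t, v s * x * u t ∈ A₀ := fun x s t => by
    rw [hAm, ← mul_assoc, ← mul_assoc, hiv, mul_assoc, hui]
  let Φ : R ≃ₗ[k] (Fin n → Fin n → A₀) :=
    { toFun := fun x s t => ⟨v s * x * u t, hcorner x s t⟩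
      map_add' := fun x y => funext fun s => funext fun t => Subtype.ext (by simp [mul_add, add_mul])
      map_smul' := fun c x => funext fun s => funext fun t => Subtype.ext (by simp)
      invFun := fun f => ∑ s, ∑ t, u s * (f s t : R) * v t
      left_inv := fun x => by
        dsimp only
        conv_rhs => rw [← one_mul x, ← mul_one (1 * x), ← huv]
        simp only [Finset.mul_sum, Finset.sum_mul, mul_assoc]
        exact Finset.sum_comm
      right_inv := fun f => funext fun s => funext fun t => Subtype.ext (by
        show v s * (∑ s', ∑ t', u s' * (f s' t' : R) * v t') * u t = _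
        simp only [Finset.mul_sum, Finset.sum_mul]
        rw [Finset.sum_eq_single s, Finset.sum_eq_single t]
        · rw [← mul_assoc, ← mul_assoc, hvu, if_pos rfl, mul_assoc, hvu, if_pos rfl,
            hAm.1 (f s t).2]
        · intro t' _ ht
          rw [← mul_assoc, ← mul_assoc, mul_assoc _ (v t') (u t), hvu t' t, if_neg ht, mul_zero]
        · exact fun h => absurd (Finset.mem_univ _) h
        · intro s' _ hs
          refine Finset.sum_eq_zero fun t' _ => ?_
          rw [← mul_assoc, ← mul_assoc, hvu, if_neg hs.symm]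
          simp
        · exact fun h => absurd (Finset.mem_univ _) h) }
  rw [Φ.finrank_eq]
  simp [Module.finrank_pi_fintype]

variable {p : ℕ} [Fact p.Prime] {M : Ideal AlgInt} [M.IsPrime] {B : Set (IrrCharacter G)}

/-- With rank one the reductions of the class vectors of `p`-regular elements are proportional. -/
theorem regular_minor [Fintype (ConjClasses G)] (hl : blockRank p B = 1) (hB : IsPBlock M B)
    {g h : G} (hg : ¬ p ∣ orderOf g) (hh : ¬ p ∣ orderOf h) (c c' : ConjClasses G) :
    let V : G → ConjClasses G → Residue M := fun g =>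
      classProj (Residue M) (toF M G (blockIdem M hB : MonoidAlgebra (localRing M) G) * single g 1)
    V g c * V h c' = V g c' * V h c := by
  intro V
  set eR : MonoidAlgebra (localRing M) G := (blockIdem M hB : MonoidAlgebra (localRing M) G)
  let W : G → ConjClasses G → localRing M := fun g => classProj (localRing M) (eR * single g 1)
  have hV : ∀ g c, V g c = residue M (W g c) := fun g c => by
    simp [V, W, classProj, coeff_mul_single_apply, toF, eR]
  obtain ⟨Φ, hΦ⟩ := exists_regular_scalar hl
  choose! r hr using hΦ
  let K : ConjClasses G → ℂ := fun c => (Nat.card G : ℂ)⁻¹ * ∑ χ ∈ B.toFinset,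
    (χ : G → ℂ) 1 * conj (centralChar (χ : G → ℂ) (classRep c)) * r χ
  have hW : ∀ g, ¬ p ∣ orderOf g → ∀ c, (W g c : ℂ) = K c * Φ g := by
    intro g hg c
    have h0 : (W g c : ℂ) = ∑ x ∈ Finset.univ.filter (fun x => ConjClasses.mk x = c),
        blockCoeff B (x * g⁻¹) := by
      simp [W, classProj, coeff_mul_single_apply, eR, coe_coeff_blockIdem hB]
    rw [h0]
    simp only [blockCoeff_eq_sum, ← Finset.sum_filter, ← Finset.mul_sum]
    rw [Finset.sum_comm, mul_assoc, Finset.sum_mul]
    congr 1
    refine Finset.sum_congr (by ext; simp) fun χ hχ => ?_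
    rw [← Finset.mul_sum, ← map_sum, sum_class_translate χ g c, map_mul, Chars.irr_inv,
      Complex.conj_conj, hr χ (by simpa using hχ) g hg]
    ring
  rw [hV, hV, hV, hV, ← map_mul, ← map_mul]
  congr 1
  refine Subtype.ext ?_
  simp only [Subring.coe_mul, hW g hg, hW h hh]
  ring

/-- An integral model reduced modulo a valuation ring above `M`: the block algebra acts on a space
of dimension `χ(1)`. -/
theorem exists_reduction (hB : IsPBlock M B) {χ : IrrCharacter G} (hχ : χ ∈ B) :
    ∃ (k' : Type) (_ : Field k') (d : ℕ)
      (Ψ : MonoidAlgebra (Residue M) G →+* Matrix (Fin d) (Fin d) k'),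
      ((χ : G → ℂ) 1 = d) ∧ Ψ (toF M G (blockIdem M hB : MonoidAlgebra (localRing M) G)) = 1 := by
  obtain ⟨d, ρ, hirr, hρ⟩ := χ.2
  haveI := hirr
  obtain ⟨A, hle, hA⟩ := Ideal.image_subset_nonunits_valuationSubring
    (IsLocalRing.maximalIdeal (localRing M)) (IsLocalRing.maximalIdeal.isMaximal _).ne_top
  obtain ⟨R, hRtr, hW, -⟩ := SmallFaithful.exists_integral_model A ρ
  let ι : localRing M →+* A := (localRing M).subtype.codRestrict A.toSubring fun x => hle x.2
  let resA : A →+* IsLocalRing.ResidueField A := IsLocalRing.residue A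
  have hker : ∀ x ∈ IsLocalRing.maximalIdeal (localRing M), resA (ι x) = 0 := by
    intro x hx
    rw [IsLocalRing.residue_eq_zero_iff]
    exact ValuationSubring.coe_mem_nonunits_iff.1 (hA ⟨x, hx, rfl⟩)
  let ρbar : Residue M →+* IsLocalRing.ResidueField A := Ideal.Quotient.lift _ (resA.comp ι) hker
  have hdeg : (χ : G → ℂ) 1 = d := by
    rw [← hρ]
    simp [Representation.character]
  let Rb : G →* Matrix (Fin d) (Fin d) (IsLocalRing.ResidueField A) :=
    (resA.mapMatrix : Matrix (Fin d) (Fin d) A →+* _).toMonoidHom.comp R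
  let ΦA : MonoidAlgebra (localRing M) G →+* Matrix (Fin d) (Fin d) A :=
    liftNCRingHom ((algebraMap A _).comp ι) R fun x y => Algebra.commutes _ _
  let Ψ : MonoidAlgebra (Residue M) G →+* Matrix (Fin d) (Fin d) (IsLocalRing.ResidueField A) :=
    liftNCRingHom ((algebraMap (IsLocalRing.ResidueField A) _).comp ρbar) Rb
      fun x y => Algebra.commutes _ _
  have hΦs : ∀ g a, ΦA (single g a) = algebraMap A _ (ι a) * R g := fun g a => by
    simp [ΦA, liftNCRingHom, liftNC_single]
  have hΨs : ∀ g a, Ψ (single g a) = algebraMap (IsLocalRing.ResidueField A) _ (ρbar a) * Rb g :=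
    fun g a => by simp [Ψ, liftNCRingHom, liftNC_single]
  have hcomp : ∀ z, Ψ (toF M G z) = resA.mapMatrix (ΦA z) := fun z => by
    induction z using MonoidAlgebra.induction_linear with
    | zero => simp
    | add x y hx hy => simp only [map_add, hx, hy]
    | single g a =>
      rw [show toF M G (single g a) = single g (residue M a) by simp [toF], hΨs, hΦs, map_mul]
      congr 1
      ext i j
      simp only [RingHom.mapMatrix_apply, Matrix.map_apply, Matrix.algebraMap_matrix_apply,
        apply_ite resA, map_zero, Algebra.algebraMap_self, RingHom.id_apply]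
      rfl
  refine ⟨IsLocalRing.ResidueField A, inferInstance, d, Ψ, hdeg, ?_⟩
  set eR : MonoidAlgebra (localRing M) G := (blockIdem M hB : MonoidAlgebra (localRing M) G)
  suffices h1 : A.subtype.mapMatrix (ΦA eR) = 1 by
    have : ΦA eR = 1 := Matrix.map_injective (f := A.subtype) Subtype.val_injective
      (by simpa using h1)
    rw [hcomp, this, map_one]
  obtain ⟨c, hc⟩ := hW (A.subtype.mapMatrix (ΦA eR)) fun g => by
    rw [← map_mul, ← map_mul]
    congr 1
    have h := Subalgebra.mem_center_iff.1 (blockIdem M hB).2 (single g (1 : localRing M))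
    have h' := congrArg ΦA h
    rwa [map_mul, map_mul, hΦs, map_one, map_one, one_mul] at h'
  have htr : ∀ z, (A.subtype.mapMatrix (ΦA z)).trace =
      (χ : G → ℂ) 1 * omega (χ : G → ℂ) (toC M G z) := fun z => by
    induction z using MonoidAlgebra.induction_linear with
    | zero => simp
    | add x y hx hy => simp only [map_add, Matrix.trace_add, hx, hy, mul_add]
    | single g a =>
      rw [show toC M G (single g a) = single g (a : ℂ) by simp [toC], omega_single, hΦs,
        Algebra.algebraMap_eq_smul_one, smul_one_mul]
      have hne := Chars.irr_apply_one_ne_zero χ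
      have h2 : (A.subtype.mapMatrix (R g)).trace = (χ : G → ℂ) g := by
        rw [← hρ, hRtr g]
        simp [Matrix.trace]
      rw [show A.subtype.mapMatrix (ι a • R g) = (a : ℂ) • A.subtype.mapMatrix (R g) by
        ext i j; simp [ι], Matrix.trace_smul, h2, smul_eq_mul]
      field_simp
  have h := htr eR
  rw [hc, Matrix.trace_smul, Matrix.trace_one, Fintype.card_fin, ← coe_omegaR,
    omegaR_blockIdem, if_pos hχ, hdeg, Subring.coe_one, mul_one, smul_eq_mul] at h
  rcases Nat.eq_zero_or_pos d with rfl | hd
  · exact Subsingleton.elim _ _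
  rw [hc, (mul_eq_right₀ (Nat.cast_ne_zero.2 hd.ne')).1 h, one_smul]

/-- In a block of rank one with cyclic defect group the number of characters is divisible by the
order of the defect group. -/
theorem card_defectGroup_dvd_card (hM : IsPModular p M) (hB : IsPBlock M B) {D : Subgroup G}
    (hD : IsDefectGroup p M B D) (hcyc : IsCyclic D) (hl : blockRank p B = 1) :
    Nat.card D ∣ Nat.card B := by
  haveI := charP_residue hM
  haveI := isAlgClosed_residue hM
  haveI : Fintype (ConjClasses G) := Fintype.ofFinite _
  haveI : CharZero (localRing M) :=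
    ⟨fun m n h => by exact_mod_cast congrArg (fun x : localRing M => (x : ℂ)) h⟩
  set k := Residue M
  set eR : MonoidAlgebra (localRing M) G := ((blockIdem M hB : RCenter M G) : MonoidAlgebra (localRing M) G)
    with heR
  have heR2 : eR * eR = eR := congrArg Subtype.val (blockIdem_mul_self hB)
  have heRc : eR ∈ Subalgebra.center (localRing M) (MonoidAlgebra (localRing M) G) :=
    (blockIdem M hB).2
  set e : MonoidAlgebra k G := toF M G eR with he
  have hec : e ∈ Subalgebra.center k (MonoidAlgebra k G) := map_mem_center (residue M) heRc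
  have he2 : e * e = e := by rw [he, ← map_mul, heR2]
  have hecomm : ∀ z, e * z = z * e := fun z => (Subalgebra.mem_center_iff.1 hec z).symm
  have hcoe : ∀ g : G, ((eR.coeff g : localRing M) : ℂ) = blockCoeff B g :=
    coe_coeff_blockIdem hB
  -- the dimension of `e k G`
  set S := LinearMap.range (LinearMap.mulLeft k e) with hS
  set N := ∑ χ ∈ B.toFinset, charDegree (χ : G → ℂ) ^ 2 with hN
  have hdimS : Module.finrank k S = N := by
    have h := congrArg (fun x : localRing M => (x : ℂ))
      (trace_eq_rank_reduction (residue M) (regMatrix_mul_self heR2))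
    have hmap : (regMatrix eR).map (residue M) = regMatrix e := by
      ext g g'
      simp [regMatrix, he]
    rw [hmap, ← finrank_range_mulLeft, trace_regMatrix] at h
    simp only [Subring.coe_mul, Subring.coe_natCast] at h
    rw [hcoe, card_mul_blockCoeff_one] at h
    have h2 : (N : ℂ) = (Module.finrank k S : ℂ) := by
      rw [← h]
      push_cast [N]
      exact Finset.sum_congr rfl fun χ _ => by rw [(exists_degree_eq χ).1]
    exact_mod_cast h2.symm
  -- the block algebra
  let I : Ideal (MonoidAlgebra k G) :=
    { carrier := {x | e * x = 0}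
      add_mem' := fun {x y} hx hy => by
        show e * (x + y) = 0
        rw [mul_add, hx, hy, add_zero]
      zero_mem' := mul_zero _
      smul_mem' := fun c x hx => by
        show e * (c * x) = 0
        rw [← mul_assoc, hecomm, mul_assoc, hx, mul_zero] }
  have hImem : ∀ {x}, x ∈ I ↔ e * x = 0 := Iff.rfl
  haveI : I.IsTwoSided := ⟨fun c hx => by rw [hImem, ← mul_assoc, hImem.1 hx, zero_mul]⟩
  let A := MonoidAlgebra k G ⧸ I
  let q : MonoidAlgebra k G →ₐ[k] A := Ideal.Quotient.mkₐ k I
  have hq : Function.Surjective q := Ideal.Quotient.mk_surjective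
  have hq0 : ∀ x, q x = 0 ↔ e * x = 0 := fun x => Ideal.Quotient.eq_zero_iff_mem
  have hqe : ∀ x, q (e * x) = q x := fun x => by
    rw [← sub_eq_zero, ← map_sub, hq0, mul_sub, ← mul_assoc, he2, sub_self]
  haveI : FiniteDimensional k A := Module.Finite.of_surjective q.toLinearMap hq
  let Φ : S →ₗ[k] A := q.toLinearMap.comp S.subtype
  have hΦ : Function.Bijective Φ := by
    refine ⟨fun x y hxy => Subtype.ext ?_, fun a => ?_⟩
    · have hxy' : q (x : MonoidAlgebra k G) = q (y : MonoidAlgebra k G) := hxy
      rw [← sub_eq_zero, ← map_sub, hq0] at hxy'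
      obtain ⟨u, hu⟩ := x.2
      obtain ⟨v, hv⟩ := y.2
      have ex : e * (x : MonoidAlgebra k G) = x := by
        rw [← hu, LinearMap.mulLeft_apply, ← mul_assoc, he2]
      have ey : e * (y : MonoidAlgebra k G) = y := by
        rw [← hv, LinearMap.mulLeft_apply, ← mul_assoc, he2]
      rwa [mul_sub, ex, ey, sub_eq_zero] at hxy'
    · obtain ⟨x, rfl⟩ := hq a
      exact ⟨⟨e * x, x, rfl⟩, hqe x⟩
  have hdimA : Module.finrank k A = N := by
    rw [← (LinearEquiv.ofBijective Φ hΦ).finrank_eq, hdimS]
  have hNpos : 0 < N := by
    obtain ⟨χ, hχ⟩ := isPBlock_nonempty hB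
    refine lt_of_lt_of_le (pow_pos (Nat.pos_of_ne_zero (exists_degree_eq χ).2.1) 2) ?_
    exact Finset.single_le_sum (f := fun ψ : IrrCharacter G => charDegree (ψ : G → ℂ) ^ 2)
      (fun _ _ => Nat.zero_le _) (by simpa using hχ)
  haveI : Nontrivial A := Module.nontrivial_of_finrank_pos (R := k) (by omega)
  -- trace functions factor through classes
  have hfac : ∀ {W : Type} [AddCommGroup W] [Module k W] (F : MonoidAlgebra k G →ₗ[k] W),
      (∀ x y, F (x * y) = F (y * x)) → ∀ z, F (classSec k (classProj k z)) = F z := by
    intro W _ _ F hF z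
    induction z using MonoidAlgebra.induction_linear with
    | zero => simp
    | add x y hx hy => simp only [map_add, hx, hy]
    | single g r =>
      rw [classProj_single]
      have : classSec k (Pi.single (ConjClasses.mk g) r) =
          single (classRep (ConjClasses.mk g)) r := by
        simp only [classSec, LinearMap.coe_mk, AddHom.coe_mk]
        rw [Finset.sum_eq_single (ConjClasses.mk g)]
        · simp
        · intro c _ hc; simp [hc]
        · exact fun h => absurd (Finset.mem_univ _) h
      rw [this]
      obtain ⟨h, hh⟩ := isConj_iff.1 (isConj_classRep_mk g)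
      conv_rhs => rw [show single g r = single h 1 * single (classRep (ConjClasses.mk g)) r *
        single h⁻¹ 1 by rw [single_mul_single, single_mul_single, one_mul, mul_one, hh]]
      rw [hF, ← mul_assoc, single_mul_single, inv_mul_cancel, one_mul, ← one_def, one_mul]
  -- one simple factor
  haveI : IsArtinianRing A := IsArtinianRing.of_finite k A
  set J := Ring.jacobson A with hJ
  obtain ⟨N₀, hN₀⟩ := IsSemiprimaryRing.isNilpotent (R := A)
  haveI : IsSemisimpleRing (A ⧸ J) := IsSemiprimaryRing.isSemisimpleRing
  haveI : FiniteDimensional k (A ⧸ J) := Module.Finite.of_surjective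
    (Ideal.Quotient.mkₐ k J).toLinearMap Ideal.Quotient.mk_surjective
  obtain ⟨m, d, hd, ⟨E⟩⟩ := IsSemisimpleRing.exists_algEquiv_pi_matrix_of_isAlgClosed k (A ⧸ J)
  let P : A →ₐ[k] (∀ a, Matrix (Fin (d a)) (Fin (d a)) k) := E.toAlgHom.comp (Ideal.Quotient.mkₐ k J)
  have hPs : Function.Surjective P := E.surjective.comp Ideal.Quotient.mk_surjective
  have hPk : ∀ x, P x = 0 ↔ x ∈ J := fun x => by
    show E (Ideal.Quotient.mk J x) = 0 ↔ _
    rw [map_eq_zero_iff _ E.injective, Ideal.Quotient.eq_zero_iff_mem]
  have hm1 : m = 1 := by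
    refine le_antisymm (not_lt.1 fun hlt => ?_) ?_
    · let F : MonoidAlgebra k G →ₗ[k] (Fin m → k) := LinearMap.pi fun a =>
        (Matrix.traceLinearMap (Fin (d a)) k k).comp
          ((LinearMap.proj a).comp (P.toLinearMap.comp q.toLinearMap))
      have hFc : ∀ x y, F (x * y) = F (y * x) := fun x y => funext fun a => by
        show Matrix.trace (P (q (x * y)) a) = Matrix.trace (P (q (y * x)) a)
        rw [map_mul, map_mul, map_mul, map_mul, Pi.mul_apply, Pi.mul_apply, Matrix.trace_mul_comm]
      have hFe : ∀ x, F (e * x) = F x := fun x => funext fun a => by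
        show Matrix.trace (P (q (e * x)) a) = Matrix.trace (P (q x) a)
        rw [hqe]
      have hreg : ∀ g : G, ∃ g' : G, ¬ p ∣ orderOf g' ∧ F (single g 1) = F (single g' 1) := by
        intro g
        obtain ⟨x, y, hxy, hc, ⟨j, hj⟩, hy⟩ := exists_isPPart (p := p) g
        refine ⟨y, hy, funext fun a => ?_⟩
        haveI : Nonempty (Fin (d a)) := ⟨⟨0, Nat.pos_of_ne_zero (hd a).out⟩⟩
        let S' : G →* Matrix (Fin (d a)) (Fin (d a)) k :=
          ((Pi.evalRingHom _ a).comp (P.comp q).toRingHom).toMonoidHom.comp (of k G)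
        show Matrix.trace (S' g) = Matrix.trace (S' y)
        rw [← hxy, map_mul]
        have hnil : IsNilpotent (S' x - 1) := ⟨p ^ j, by
          rw [sub_pow_char_pow_of_commute p j (Commute.one_right _), ← map_pow, ← hj,
            pow_orderOf_eq_one, map_one, one_pow, sub_self]⟩
        have hcom : Commute (S' x - 1) (S' y) := ((hc.map S').sub_left (Commute.one_left _))
        have h0 := (Matrix.isNilpotent_trace_of_isNilpotent (hcom.isNilpotent_mul_right hnil)).eq_zero
        rw [Matrix.sub_mul, Matrix.one_mul, Matrix.trace_sub] at h0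
        exact sub_eq_zero.1 h0
      have hprop : ∀ (a b : Fin m) (g h : G),
          F (single g 1) a * F (single h 1) b = F (single g 1) b * F (single h 1) a := by
        intro a b g h
        obtain ⟨g', hg', hgg⟩ := hreg g
        obtain ⟨h', hh', hhh⟩ := hreg h
        have hexp : ∀ g a, F (single g 1) a =
            ∑ c, classProj k (e * single g 1) c * F (single (classRep c) 1) a := by
          intro g a
          conv_lhs => rw [← hFe, ← hfac F hFc]
          simp only [classSec, LinearMap.coe_mk, AddHom.coe_mk, map_sum, Finset.sum_apply]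
          refine Finset.sum_congr rfl fun c _ => ?_
          rw [show single (classRep c) (classProj k (e * single g 1) c) =
            classProj k (e * single g 1) c • single (classRep c) (1 : k) by simp, map_smul]
          simp
        rw [hgg, hhh, hexp g', hexp h', hexp g', hexp h', Finset.sum_mul_sum, Finset.sum_mul_sum,
          Finset.sum_comm (s := Finset.univ) (t := Finset.univ)
            (f := fun i j => classProj k (e * single g' 1) i * F (single (classRep i) 1) b *
              (classProj k (e * single h' 1) j * F (single (classRep j) 1) a))]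
        refine Finset.sum_congr rfl fun c _ => Finset.sum_congr rfl fun c' _ => ?_
        have := regular_minor hl hB hg' hh' c c'
        simp only at this
        linear_combination (F (single (classRep c) 1) a * F (single (classRep c') 1) b) * this
      have hall : ∀ (a b : Fin m) y z, F y a * F z b = F y b * F z a := by
        intro a b y z
        induction y using MonoidAlgebra.induction_linear with
        | zero => simp
        | add y y' hy hy' => simp only [map_add, Pi.add_apply, add_mul, hy, hy']
        | single g r =>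
          induction z using MonoidAlgebra.induction_linear with
          | zero => simp
          | add z z' hz hz' => simp only [map_add, Pi.add_apply, mul_add, hz, hz']
          | single h s =>
            rw [show single g r = r • single g (1 : k) by simp,
              show single h s = s • single h (1 : k) by simp, map_smul, map_smul]
            simp only [Pi.smul_apply, smul_eq_mul]
            linear_combination (r * s) * hprop a b g h
      have hsep : ∀ a₀ : Fin m, ∃ y, ∀ a, F y a = if a = a₀ then 1 else 0 := by
        intro a₀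
        obtain ⟨w, hw⟩ := hPs fun a => if a = a₀ then
          Matrix.single (⟨0, Nat.pos_of_ne_zero (hd a).out⟩ : Fin (d a))
            ⟨0, Nat.pos_of_ne_zero (hd a).out⟩ 1 else 0
        obtain ⟨y, rfl⟩ := hq w
        refine ⟨y, fun a => ?_⟩
        show Matrix.trace (P (q y) a) = _
        rw [hw]
        dsimp only
        split_ifs
        · rw [Matrix.trace_single_eq_same]
        · rw [Matrix.trace_zero]
      obtain ⟨y, hy⟩ := hsep ⟨0, by omega⟩
      obtain ⟨z, hz⟩ := hsep ⟨1, by omega⟩
      have := hall ⟨0, by omega⟩ ⟨1, by omega⟩ y z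
      simp [hy, hz] at this
    · rcases Nat.eq_zero_or_pos m with h | h
      · subst h
        have h1 : (1 : A) ∈ J := (hPk 1).1 (funext fun a => a.elim0)
        exfalso
        exact one_ne_zero (α := A) (by
          have := Ideal.pow_mem_pow h1 N₀
          rw [one_pow, hN₀] at this
          exact this)
      · omega
  subst hm1
  obtain ⟨n, hn⟩ : ∃ n, d 0 = n + 1 := ⟨d 0 - 1, by have := (hd 0).out; omega⟩
  let π : A →+* Matrix (Fin (n + 1)) (Fin (n + 1)) k :=
    (Matrix.reindexAlgEquiv k k (finCongr hn)).toRingEquiv.toRingHom.comp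
      ((Pi.evalRingHom _ 0).comp P.toRingHom)
  have hπs : Function.Surjective π := fun X => by
    obtain ⟨x, hx⟩ := hPs fun a => Fin.cases ((Matrix.reindexAlgEquiv k k (finCongr hn)).symm X)
      (fun a => a.elim0) a
    refine ⟨x, ?_⟩
    simp only [π, RingHom.comp_apply, AlgHom.toRingHom_eq_coe, RingHom.coe_coe, Pi.evalRingHom_apply,
      hx]
    exact (Matrix.reindexAlgEquiv k k (finCongr hn)).apply_symm_apply X
  have hπk : ∀ x, π x = 0 ↔ x ∈ J := fun x => by
    rw [← hPk]
    show Matrix.reindexAlgEquiv k k (finCongr hn) (P x 0) = 0 ↔ _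
    rw [map_eq_zero_iff _ (Matrix.reindexAlgEquiv k k (finCongr hn)).injective]
    exact ⟨fun h => funext fun a => by rw [Subsingleton.elim a 0]; exact h, fun h => by rw [h]; rfl⟩
  have hπc : ∀ (c : k) x, π (c • x) = c • π x := fun c x => by
    show Matrix.reindexAlgEquiv k k (finCongr hn) (P (c • x) 0) =
      c • Matrix.reindexAlgEquiv k k (finCongr hn) (P x 0)
    rw [map_smul, Pi.smul_apply, map_smul]
  obtain ⟨i, u, v, hi, hπi, hvu, huv, hui, hiv⟩ := exists_matrixUnits π hπs fun x hx =>
    ⟨N₀, by
      have := Ideal.pow_mem_pow ((hπk x).1 hx) N₀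
      rwa [hN₀] at this⟩
  have hπcorner : ∀ z, i * z * i = z → π z = Matrix.single 0 0 (π z 0 0) := fun z hz => by
    conv_lhs => rw [← hz, map_mul, map_mul, hπi, Matrix.single_mul_mul_single]
    simp
  let C : LocalCorner k A :=
    { n := n + 1
      n_pos := Nat.succ_pos n
      i := i
      u := u
      v := v
      hi := hi.eq
      vu := hvu
      uv := huv
      ui := hui
      iv := hiv
      ε := { toFun := fun x => π x 0 0
             map_add' := fun x y => by rw [map_add]; rfl
             map_smul' := fun c x => by rw [hπc]; rfl }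
      ε_i := by
        show π i 0 0 = 1
        rw [hπi, Matrix.single_apply_same]
      ε_mul := fun z w hz hw => by
        show π (z * w) 0 0 = π z 0 0 * π w 0 0
        conv_lhs => rw [map_mul, hπcorner z hz, hπcorner w hw, Matrix.single_mul_single_same]
        rw [Matrix.single_apply_same]
      J := J
      J_twoSided := inferInstance
      J_nil := ⟨N₀, hN₀⟩
      ε_J := fun z hz => by
        show π z 0 0 = 0 ↔ _
        rw [← hπk]
        exact ⟨fun h => by rw [hπcorner z hz, h, Matrix.single_zero], fun h => by rw [h]; rfl⟩ }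
  -- the corner is commutative
  obtain ⟨u₀, hu₀⟩ := (Subgroup.isCyclic_iff_exists_zpowers_eq_top D).1 hcyc
  have hDp : IsPGroup p D := isPGroup_of_isDefectGroup hD
  subst hu₀
  obtain ⟨a₀, ha₀⟩ := hDp.exists_card_eq
  rw [Nat.card_zpowers] at ha₀
  haveI : Fintype (G ⧸ Subgroup.zpowers u₀) := Fintype.ofFinite _
  obtain ⟨x₀, hx₀, htr₀⟩ := exists_relTrace_eq hM hB hD
  let γ : G →* A := (q.toRingHom.toMonoidHom).comp (of k G)
  have hγ : Submodule.span k (Set.range γ) = ⊤ := by
    rw [eq_top_iff]
    intro y _
    obtain ⟨y, rfl⟩ := hq y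
    induction y using MonoidAlgebra.induction_linear with
    | zero => simp
    | add y y' hy hy' => rw [map_add]; exact add_mem (hy trivial) (hy' trivial)
    | single g r =>
      rw [show single g r = r • single g (1 : k) by simp, map_smul]
      exact Submodule.smul_mem _ _ (Submodule.subset_span ⟨g, rfl⟩)
  have hcomm : ∀ {z w : A}, i * z * i = z → i * w * i = w → z * w = w * z := fun {z w} hz hw =>
    C.corner_comm (p := p) (a := a₀) γ hγ u₀ (by rw [← ha₀, pow_orderOf_eq_one]) (x := q x₀)
      (by
        show q (single u₀ 1) * q x₀ = q x₀ * q (single u₀ 1)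
        rw [← map_mul, ← map_mul, hx₀ u₀ (Subgroup.mem_zpowers u₀)])
      (by
        have h := congrArg q htr₀
        rw [map_sum, ← mul_one (toF M G _), hqe, map_one] at h
        rw [← h]
        refine Finset.sum_congr rfl fun c _ => ?_
        rw [map_mul, map_mul]
        rfl) hz hw
  let A₀ : Submodule k A :=
    { carrier := {x | i * x * i = x}
      add_mem' := fun {x y} hx hy => by
        show i * (x + y) * i = x + y
        rw [mul_add, add_mul, hx, hy]
      zero_mem' := by simp
      smul_mem' := fun c x hx => by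
        show i * (c • x) * i = c • x
        rw [mul_smul_comm, smul_mul_assoc, hx] }
  have hAm : ∀ {x : A}, x ∈ A₀ ↔ i * x * i = x := Iff.rfl
  have hcorner : ∀ x s t, v s * x * u t ∈ A₀ := fun x s t => C.corner_mem x s t
  set c₀ := Module.finrank k A₀ with hc₀
  have hdim : Module.finrank k A = (n + 1) * ((n + 1) * c₀) := by
    exact finrank_eq_corner hi.eq hvu huv hiv hui A₀ hAm
  have hc₀B : c₀ ≤ B.toFinset.card := by
    let L : MonoidAlgebra k G →ₗ[k] A := (cornerTrace (k := k) u v).comp q.toLinearMap
    have hLc : ∀ x y, L (x * y) = L (y * x) := fun x y => by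
      show cornerTrace (k := k) u v (q (x * y)) = cornerTrace (k := k) u v (q (y * x))
      rw [map_mul q, map_mul q, cornerTrace_mul huv, cornerTrace_mul huv, Finset.sum_comm]
      exact Finset.sum_congr rfl fun s _ => Finset.sum_congr rfl fun t _ =>
        hcomm (hcorner _ _ _) (hcorner _ _ _)
    have hLe : ∀ z, L (e * z) = L z := fun z => by
      show cornerTrace (k := k) u v (q (e * z)) = cornerTrace (k := k) u v (q z)
      rw [hqe]
    have hle : A₀ ≤ Submodule.map (L.comp (classSec k))
        (LinearMap.range (classMatrix e).mulVecLin) := by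
      intro x hx
      obtain ⟨y, hy⟩ := hq (u 0 * x * v 0)
      refine ⟨(classMatrix e).mulVec (classProj k y), ⟨_, rfl⟩, ?_⟩
      have hfac' : ∀ z, L (classSec k (classProj k z)) = L z := by
        intro z
        induction z using MonoidAlgebra.induction_linear with
        | zero => simp
        | add x y hx hy => simp only [map_add, hx, hy]
        | single g r =>
          rw [classProj_single]
          have : classSec k (Pi.single (ConjClasses.mk g) r) =
              single (classRep (ConjClasses.mk g)) r := by
            simp only [classSec, LinearMap.coe_mk, AddHom.coe_mk]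
            rw [Finset.sum_eq_single (ConjClasses.mk g)]
            · simp
            · intro c _ hc; simp [hc]
            · exact fun h => absurd (Finset.mem_univ _) h
          rw [this]
          obtain ⟨h, hh⟩ := isConj_iff.1 (isConj_classRep_mk g)
          conv_rhs => rw [show single g r = single h 1 * single (classRep (ConjClasses.mk g)) r *
            single h⁻¹ 1 by rw [single_mul_single, single_mul_single, one_mul, mul_one, hh]]
          rw [hLc, ← mul_assoc, single_mul_single, inv_mul_cancel, one_mul, ← one_def, one_mul]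
      show L (classSec k _) = x
      rw [← classProj_mul_eq hec, hfac', hLe]
      show cornerTrace (k := k) u v (q y) = x
      rw [hy]
      show ∑ s, v s * (u 0 * x * v 0) * u s = x
      rw [Finset.sum_eq_single 0]
      · rw [← mul_assoc, ← mul_assoc, hvu, if_pos rfl, mul_assoc, hvu, if_pos rfl, hAm.1 hx]
      · intro s _ hs
        rw [← mul_assoc, ← mul_assoc, hvu, if_neg hs]
        simp
      · exact fun h => absurd (Finset.mem_univ _) h
    refine (Submodule.finrank_mono hle).trans ((Submodule.finrank_map_le _ _).trans (le_of_eq ?_))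
    have hmap : (classMatrix eR).map (residue M) = classMatrix e := by
      ext c c'
      simp [classMatrix, he]
    have h := congrArg (fun x : localRing M => (x : ℂ))
      (trace_eq_rank_reduction (residue M) (classMatrix_mul_self heRc heR2))
    rw [hmap] at h
    have htr : ((classMatrix eR).trace : ℂ) = (B.toFinset.card : ℂ) := by
      rw [← sum_classMatrix_blockCoeff B]
      simp only [Matrix.trace, Matrix.diag, classMatrix, AddSubmonoidClass.coe_finset_sum, hcoe]
    simp only [Subring.coe_natCast] at h
    rw [htr] at h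
    exact_mod_cast h.symm
  -- all degrees are multiples of `n + 1`
  have hdvd : ∀ χ ∈ B, n + 1 ∣ charDegree (χ : G → ℂ) := by
    intro χ hχ
    obtain ⟨k', _, d', Ψ, hd', hΨ⟩ := exists_reduction hB hχ
    let Ψ' : A →+* Matrix (Fin d') (Fin d') k' := Ideal.Quotient.lift I Ψ fun y hy => by
      rw [← one_mul (Ψ y), ← hΨ, ← map_mul, hImem.1 hy, map_zero]
    let R := LinearMap.range (Ψ' i).mulVecLin
    let Θ : (Fin d' → k') ≃ₗ[k'] (Fin (n + 1) → R) :=
      { toFun := fun w s => ⟨(Ψ' (v s)).mulVec w, (Ψ' (v s)).mulVec w, by
          show (Ψ' i).mulVec _ = _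
          rw [Matrix.mulVec_mulVec, ← map_mul, hiv]⟩
        map_add' := fun w w' => funext fun s => Subtype.ext (by simp [Matrix.mulVec_add])
        map_smul' := fun c w => funext fun s => Subtype.ext (by simp [Matrix.mulVec_smul])
        invFun := fun f => ∑ s, (Ψ' (u s)).mulVec (f s : Fin d' → k')
        left_inv := fun w => by
          show ∑ s, (Ψ' (u s)).mulVec ((Ψ' (v s)).mulVec w) = w
          simp only [Matrix.mulVec_mulVec, ← map_mul]
          rw [← Matrix.sum_mulVec, ← map_sum, huv, map_one, Matrix.one_mulVec]
        right_inv := fun f => funext fun s => Subtype.ext (by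
          show (Ψ' (v s)).mulVec (∑ t, (Ψ' (u t)).mulVec (f t : Fin d' → k')) = _
          rw [Matrix.mulVec_sum, Finset.sum_eq_single s]
          · obtain ⟨w, hw⟩ := (f s).2
            have hw' : (Ψ' i).mulVec w = (f s : Fin d' → k') := hw
            rw [← hw', Matrix.mulVec_mulVec, Matrix.mulVec_mulVec, ← map_mul, ← map_mul, hvu,
              if_pos rfl, hi.eq]
          · intro t _ ht
            rw [Matrix.mulVec_mulVec, ← map_mul, hvu, if_neg ht.symm, map_zero, Matrix.zero_mulVec]
          · exact fun h => absurd (Finset.mem_univ _) h) }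
    have h := Θ.finrank_eq
    rw [Module.finrank_fin_fun, Module.finrank_pi_fintype] at h
    simp only [Finset.sum_const, Finset.card_univ, Fintype.card_fin, smul_eq_mul] at h
    have hcd : charDegree (χ : G → ℂ) = d' := by
      exact_mod_cast (exists_degree_eq χ).1.symm.trans hd'
    exact ⟨_, hcd.trans h⟩
  choose! r hr using hdvd
  have hsum : ∑ χ ∈ B.toFinset, r χ ^ 2 = c₀ := by
    have h : N = (n + 1) * ((n + 1) * ∑ χ ∈ B.toFinset, r χ ^ 2) := by
      rw [hN, Finset.mul_sum, Finset.mul_sum]
      exact Finset.sum_congr rfl fun χ hχ => by rw [hr χ (by simpa using hχ)]; ring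
    rw [hdimA, h] at hdim
    exact mul_left_cancel₀ (n.add_one_ne_zero) (mul_left_cancel₀ (n.add_one_ne_zero) hdim)
  have hr1 : ∀ χ ∈ B.toFinset, 1 ≤ r χ ^ 2 := fun χ hχ => by
    refine Nat.one_le_pow _ _ (Nat.pos_of_ne_zero fun h => ?_)
    have := hr χ (by simpa using hχ)
    rw [h, mul_zero] at this
    exact (exists_degree_eq χ).2.1 this
  have heq : ∑ χ ∈ B.toFinset, (1 : ℕ) = ∑ χ ∈ B.toFinset, r χ ^ 2 := by
    refine le_antisymm (Finset.sum_le_sum hr1) ?_
    rw [hsum, Finset.sum_const, smul_eq_mul, mul_one]
    exact hc₀B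
  obtain ⟨χ₀, hχ₀, hh0⟩ := exists_height_zero (p := p) hB
  have hr0 : r χ₀ = 1 := by
    have := (Finset.sum_eq_sum_iff_of_le hr1).1 heq χ₀ (by simpa using hχ₀)
    exact (Nat.pow_eq_one.1 this.symm).resolve_right two_ne_zero
  -- the rank of a projective module
  obtain ⟨H⟩ := (inferInstance : Nonempty (Sylow p G))
  have hdvd2 : Nat.card H ∣ (n + 1) * c₀ := by
    obtain ⟨x, hx⟩ := hq i
    set y := e * x with hy
    have hyI : IsIdempotentElem y := by
      have h0 : q (x * x - x) = 0 := by rw [map_sub, map_mul, hx, hi.eq, sub_self]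
      rw [hq0, mul_sub, sub_eq_zero] at h0
      show e * x * (e * x) = e * x
      rw [mul_assoc, ← mul_assoc x, ← hecomm x, ← mul_assoc, ← mul_assoc, he2, mul_assoc, h0]
    have hye : e * y = y := by rw [hy, ← mul_assoc, he2]
    have hqy : q y = i := by rw [hy, hqe, hx]
    have hdv := card_dvd_finrank_mulRight (H : Subgroup G) H.2 hyI
    let Θ : LinearMap.range (LinearMap.mulRight k y) →ₗ[k] (Fin (n + 1) → A₀) :=
      LinearMap.pi fun s => LinearMap.codRestrict A₀
        ((LinearMap.mulLeft k (v s)).comp (q.toLinearMap.comp (Submodule.subtype _))) (by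
        rintro ⟨_, w, rfl⟩
        show i * (v s * q (w * y)) * i = v s * q (w * y)
        rw [map_mul, hqy, ← mul_assoc, hiv, mul_assoc, mul_assoc, hi.eq])
    have hΘ : Function.Bijective Θ := by
      refine ⟨fun a c hac => Subtype.ext ?_, fun f => ?_⟩
      · have h' : q (a : MonoidAlgebra k G) = q (c : MonoidAlgebra k G) := by
          have hs : ∀ s, v s * q (a : MonoidAlgebra k G) = v s * q (c : MonoidAlgebra k G) :=
            fun s => congrArg Subtype.val (congrFun hac s)
          rw [← one_mul (q (a : MonoidAlgebra k G)), ← one_mul (q (c : MonoidAlgebra k G)), ← huv,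
            Finset.sum_mul, Finset.sum_mul]
          exact Finset.sum_congr rfl fun s _ => by rw [mul_assoc, hs, mul_assoc]
        rw [← sub_eq_zero, ← map_sub, hq0] at h'
        obtain ⟨w, hw⟩ := a.2
        obtain ⟨w', hw'⟩ := c.2
        have ea : e * (a : MonoidAlgebra k G) = a := by
          rw [← hw, LinearMap.mulRight_apply, ← mul_assoc, hecomm w, mul_assoc, hye]
        have ec : e * (c : MonoidAlgebra k G) = c := by
          rw [← hw', LinearMap.mulRight_apply, ← mul_assoc, hecomm w', mul_assoc, hye]
        rwa [mul_sub, ea, ec, sub_eq_zero] at h'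
      · obtain ⟨w, hw⟩ := hq (∑ s, u s * (f s : A))
        refine ⟨⟨w * y, w, rfl⟩, funext fun s => Subtype.ext ?_⟩
        show v s * q (w * y) = _
        rw [map_mul, hqy, hw, Finset.sum_mul, Finset.mul_sum, Finset.sum_eq_single s]
        · rw [mul_assoc, show (f s : A) * i = f s from C.mem_right (f s).2, ← mul_assoc, hvu,
            if_pos rfl]
          exact C.mem_left (f s).2
        · intro t _ ht
          rw [← mul_assoc, ← mul_assoc, hvu, if_neg ht.symm, zero_mul, zero_mul]
        · exact fun h => absurd (Finset.mem_univ _) h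
    rw [(LinearEquiv.ofBijective Θ hΘ).finrank_eq, Module.finrank_pi_fintype] at hdv
    simpa [hc₀] using hdv
  have hn0 : n + 1 = charDegree (χ₀ : G → ℂ) := by rw [hr χ₀ hχ₀, hr0, mul_one]
  have hfact := factorization_degree_add_blockDefect hM hB hχ₀
  rw [hh0, add_zero, ← hn0] at hfact
  have hcB : c₀ = Nat.card B := by
    rw [Nat.card_coe_set_eq, Set.ncard_eq_toFinset_card', ← hsum, ← heq]
    simp
  rw [card_defectGroup hM hB hD, ← hcB]
  rw [H.card_eq_multiplicity] at hdvd2
  have hcpos : c₀ ≠ 0 := by
    rw [hcB]
    haveI : Nonempty B := ⟨⟨χ₀, hχ₀⟩⟩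
    exact Nat.card_pos.ne'
  have h := ((Fact.out : p.Prime).pow_dvd_iff_le_factorization
    (Nat.mul_ne_zero (n.add_one_ne_zero) hcpos)).1 hdvd2
  rw [Nat.factorization_mul (n.add_one_ne_zero) hcpos, Finsupp.add_apply, hfact] at h
  exact ((Fact.out : p.Prime).pow_dvd_iff_le_factorization hcpos).2 (by omega)

end Cfsg.Agent.Lib.CyclicBlock
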