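import Mathlib
import Cfsg.Agent.Lib.CyclicBlock.Residue
import Cfsg.Agent.Lib.FreeInertia.Count

/-!
# A block of rank one with cyclic defect group has trivial inertial quotient
-/

set_option autoImplicit false

namespace Cfsg.Agent.Lib.CyclicBlock

open Finset Cfsg Cfsg.Agent.Lib Cfsg.Agent.Lib.BrauerPairs Cfsg.Agent.Lib.AbelianStar

universe u

attribute [local instance] Classical.propDecidable

variable {G : Type u} [Group G] [Fintype G] {p : ℕ} {M : Ideal AlgInt} [Fact p.Prime] [M.IsPrime]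
  {B : Set (IrrCharacter G)} {b : BrauerPairIdx G}

/-- Rank one and cyclic defect group force every inertial element to centralize it. -/
theorem mem_centralizer_of_rank_one (hM : IsPModular p M)
    (hmax : IsMaximalBrauerPair p M B b.1 b.2) (hD : IsDefectGroup p M B b.1)
    (hcyc : IsCyclic b.1) (hl : blockRank p B = 1) {y : G} (hy : InStab b y) :
    y ∈ Subgroup.centralizer (b.1 : Set G) := by
  have hab : ∀ x ∈ b.1, ∀ z ∈ b.1, x * z = z * x := fun x hx z hz => by
    haveI := hcyc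
    letI : CommGroup b.1 := IsCyclic.commGroup
    exact congrArg Subtype.val (mul_comm (⟨x, hx⟩ : b.1) ⟨z, hz⟩)
  have hB : IsPBlock M B := hmax.1.2.1
  have hfree := FreeInertia.isFree_of_isCyclic hM hmax hab hcyc
  have hdvd := card_defectGroup_dvd_card hM hB hD hcyc hl
  have hk := FreeInertia.card_eq_rank_add hM hmax hab hfree
  rw [hl, Nat.cast_one] at hk
  set S := univ.erase (1 : b.1)
  have hle : ∀ w ∈ S, ((orb b w).card : ℝ)⁻¹ ≤ 1 := fun w _ =>
    inv_le_one_of_one_le₀ (by exact_mod_cast orb_card_pos hmax w)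
  have hS : S.card + 1 = Nat.card b.1 := by
    rw [Finset.card_erase_add_one (Finset.mem_univ _), Finset.card_univ, Fintype.card_eq_nat_card]
  have hkR : (B.toFinset.card : ℝ) = 1 + ∑ w ∈ S, ((orb b w).card : ℝ)⁻¹ := by
    have h := congrArg Complex.re hk
    simp only [Complex.natCast_re, Complex.add_re, Complex.one_re, Complex.re_sum] at h
    rw [h]
    congr 1
    refine Finset.sum_congr rfl fun w _ => ?_
    rw [show ((orb b w).card : ℂ) = (((orb b w).card : ℝ) : ℂ) by push_cast; rfl,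
      ← Complex.ofReal_inv, Complex.ofReal_re]
  have hkB : Nat.card B = B.toFinset.card := by
    rw [Nat.card_coe_set_eq, Set.ncard_eq_toFinset_card']
  have hge : (Nat.card b.1 : ℝ) ≤ B.toFinset.card := by
    rw [← hkB]
    haveI : Nonempty B := let ⟨χ, hχ⟩ := Blocks.isPBlock_nonempty hB; ⟨⟨χ, hχ⟩⟩
    exact_mod_cast Nat.le_of_dvd Nat.card_pos hdvd
  have heq : ∀ w ∈ S, ((orb b w).card : ℝ)⁻¹ = 1 := by
    refine (Finset.sum_eq_sum_iff_of_le hle).1 (le_antisymm (Finset.sum_le_sum hle) ?_)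
    rw [Finset.sum_const, nsmul_eq_mul, mul_one]
    have : (S.card : ℝ) + 1 = Nat.card b.1 := by exact_mod_cast hS
    linarith
  refine Subgroup.mem_centralizer_iff.2 fun z hz => ?_
  by_cases hz1 : z = 1
  · subst hz1; rw [one_mul, mul_one]
  have hc : (orb b (⟨z, hz⟩ : b.1)).card = 1 := by
    have h := heq ⟨z, hz⟩ (Finset.mem_erase.2 ⟨fun h => hz1 (congrArg Subtype.val h), mem_univ _⟩)
    rw [inv_eq_one] at h
    exact_mod_cast h
  have hmem : (⟨y * z * y⁻¹, hy.conj_mem hz⟩ : b.1) ∈ orb b ⟨z, hz⟩ := mem_orb.2 ⟨y, hy, rfl⟩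
  have h := congrArg Subtype.val
    (Finset.card_le_one.1 hc.le _ hmem _ (self_mem_orb hmax (⟨z, hz⟩ : b.1)))
  exact (mul_inv_eq_iff_eq_mul.1 h).symm

end Cfsg.Agent.Lib.CyclicBlock
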